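import Cfsg.Agent.LargeFischerE.Local
import Cfsg.Agent.LargeExtraspecial.Quotient
import Cfsg.Agent.Forms.UFourTwo

/-!
The centralizer of the image of `z` in the centralizer of the four-group modulo the four-group: an extraspecial
group of order 512 extended by `PSp(4,3)`.
-/

set_option autoImplicit false
set_option linter.unusedSectionVars false
set_option linter.style.haveILetI false
set_option maxHeartbeats 1000000

namespace CfsgLib.LargeFischerE.Pair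

open Cfsg CfsgLib.LargeFischer
open scoped commutatorElement

variable {G : Type*} [Group G] [Finite G] {z : G} {Q : Subgroup (Cz z)} [Q.Normal] {D : Data z Q} {C : Coords D}
  (P : Pair C)

theorem E_central {a g : G} (ha : a ∈ P.E) (hg : g ∈ P.EC) : a * g = g * a :=
  Subgroup.mem_centralizer_iff.1 hg a ha

theorem E_normal : (P.E.subgroupOf P.EC).Normal := ⟨fun a ha g => by
  rw [Subgroup.mem_subgroupOf] at ha ⊢
  simp only [Subgroup.coe_mul, Subgroup.coe_inv]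
  rw [← P.E_central ha g.2, mul_inv_cancel_right]
  exact ha⟩

instance instENormal : (P.E.subgroupOf P.EC).Normal := P.E_normal

/-- The centralizer of the four-group modulo the four-group. -/
abbrev Gb : Type _ := ↥P.EC ⧸ P.E.subgroupOf P.EC

/-- The image of `z`. -/
def zb : P.Gb := QuotientGroup.mk ⟨z, P.z_mem_EC⟩

theorem mk_eq_one {c : P.EC} : (QuotientGroup.mk c : P.Gb) = 1 ↔ (c : G) ∈ P.E := by
  rw [QuotientGroup.eq_one_iff, Subgroup.mem_subgroupOf]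

theorem zb_ne : P.zb ≠ 1 := fun h => P.z_not_mem (P.mk_eq_one.1 h)

theorem zb_sq : P.zb * P.zb = 1 := by
  rw [zb, ← QuotientGroup.mk_mul, P.mk_eq_one, Subgroup.coe_mul]
  have h : z * z = 1 := (congrArg (qIncl Q) (zin_sq D.hS)).trans (map_one _)
  rw [h]
  exact one_mem _

theorem orderOf_zb : orderOf P.zb = 2 :=
  orderOf_eq_prime (by rw [pow_two]; exact P.zb_sq) P.zb_ne

/-- The centralizer of the image of `z`. -/
abbrev H1 : Subgroup P.Gb := Subgroup.centralizer ({P.zb} : Set P.Gb)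

/-- The map from the centralizer in `H`. -/
noncomputable def θ : P.HE →* P.H1 where
  toFun h := ⟨QuotientGroup.mk ⟨((h : Cz z) : G), Subgroup.mem_subgroupOf.1 h.2⟩,
    Subgroup.mem_centralizer_singleton_iff.2 (congrArg QuotientGroup.mk
      (Subtype.ext (Subgroup.mem_centralizer_singleton_iff.1 (h : Cz z).2) :
        (⟨_, Subgroup.mem_subgroupOf.1 h.2⟩ * ⟨z, P.z_mem_EC⟩ : P.EC) =
          ⟨z, P.z_mem_EC⟩ * ⟨_, Subgroup.mem_subgroupOf.1 h.2⟩))⟩
  map_one' := Subtype.ext ((QuotientGroup.eq_one_iff _).2 (one_mem _))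
  map_mul' _ _ := Subtype.ext rfl

theorem θ_eq_one {h : P.HE} : P.θ h = 1 ↔ ((h : Cz z) : G) ∈ P.E := by
  rw [Subtype.ext_iff]
  exact P.mk_eq_one

theorem θ_surjective : Function.Surjective P.θ := by
  rintro ⟨y, hy⟩
  obtain ⟨c, rfl⟩ := QuotientGroup.mk_surjective y
  have h : (QuotientGroup.mk (c * ⟨z, P.z_mem_EC⟩ * c⁻¹ * ⟨z, P.z_mem_EC⟩⁻¹) : P.Gb) = 1 := by
    simp only [QuotientGroup.mk_mul, QuotientGroup.mk_inv]
    rw [mul_inv_eq_one, mul_inv_eq_iff_eq_mul]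
    exact Subgroup.mem_centralizer_singleton_iff.1 hy
  rw [P.mk_eq_one] at h
  simp only [Subgroup.coe_mul, Subgroup.coe_inv] at h
  set a := (c : G) * z * (c : G)⁻¹ * z⁻¹ with ha
  have haz : a * z = z * a := Subgroup.mem_centralizer_singleton_iff.1 (inG_le (P.E_le h))
  have hc : (c : G) ∈ Cz z := by
    refine Subgroup.mem_centralizer_singleton_iff.2 ?_
    by_contra hne
    have hne' : a ≠ 1 := fun e => hne (mul_inv_eq_iff_eq_mul.1 (mul_inv_eq_one.1 e))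
    refine P.not_isConj_z_mul h hne' (isConj_iff.2 ⟨c, ?_⟩)
    rw [← haz, ha]; group
  exact ⟨⟨⟨c, hc⟩, Subgroup.mem_subgroupOf.2 c.2⟩, rfl⟩

theorem θ_ker_le : P.θ.ker ≤ P.ψ.ker := fun h hh => by
  rw [MonoidHom.mem_ker, θ_eq_one] at hh
  rw [MonoidHom.mem_ker, ψ_eq_one]
  obtain ⟨q, hq⟩ := mem_inG.1 (P.E_le hh)
  exact (Subtype.ext hq : (q : Cz z) = h) ▸ q.2

/-- The map onto the four-dimensional group. -/
noncomputable def χ : P.H1 →* stabBase C.F := P.θ.liftOfSurjective P.θ_surjective ⟨P.ψ, P.θ_ker_le⟩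

theorem χ_θ (h : P.HE) : P.χ (P.θ h) = P.ψ h :=
  MonoidHom.liftOfRightInverse_comp_apply _ _ _ ⟨P.ψ, P.θ_ker_le⟩ h

theorem χ_surjective : Function.Surjective P.χ := fun l => by
  obtain ⟨h, rfl⟩ := P.ψ_surjective l
  exact ⟨P.θ h, P.χ_θ h⟩

theorem card_stab : Nat.card (stabBase C.F) = 25920 :=
  card_stabBase C.F C.c D.L_card (fun l _ hw => C.act_inA l.1 hw) (fun u w hu hw => (C.orbA u w hu).2 hw)

theorem simple_stab : IsSimpleGroup (stabBase C.F) := by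
  obtain ⟨e⟩ := exists_iso_su C.F (card_stab (C := C)) (five D)
  haveI : IsSimpleGroup (Cfsg.PSU 4 CfsgLib.Linear.GF4 2) :=
    CfsgLib.Forms4.isSimpleGroup_PSU (by rw [CfsgLib.Linear.card_gf4]; norm_num) 4 (by norm_num) (by simp)
  exact e.isSimpleGroup

theorem Gb_eq {a b : P.HE} (h : P.θ a * P.θ b = P.θ b * P.θ a) :
    ((a : Cz z) : G) * (b : Cz z) * ((a : Cz z) : G)⁻¹ * ((b : Cz z) : G)⁻¹ ∈ P.E := by
  have h1 : P.θ (a * b * a⁻¹ * b⁻¹) = 1 := by
    rw [map_mul, map_mul, map_mul, map_inv, map_inv, h]; group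
  exact P.θ_eq_one.1 h1

/-- The image of `Q`. -/
noncomputable def J : Subgroup P.H1 := (Q.subgroupOf P.HE).map P.θ

theorem mem_HE_of_commute {q : Q} (h1 : Commute q P.t) (h2 : Commute q P.u) : (q : Cz z) ∈ P.HE :=
  P.mem_HE_Q.2 ⟨h1, h2⟩

theorem ker_χ : P.χ.ker = P.J := by
  ext y
  obtain ⟨h, rfl⟩ := P.θ_surjective y
  rw [MonoidHom.mem_ker, P.χ_θ, P.ψ_eq_one]
  constructor
  · exact fun hq => ⟨h, Subgroup.mem_subgroupOf.2 hq, rfl⟩
  · rintro ⟨k, hk, e⟩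
    have h1 : k⁻¹ * h ∈ P.θ.ker := by rw [MonoidHom.mem_ker, map_mul, map_inv, e, inv_mul_cancel]
    have h2 := P.ψ_eq_one.1 (MonoidHom.mem_ker.1 (P.θ_ker_le h1))
    have h3 := Q.mul_mem (Subgroup.mem_subgroupOf.1 hk) h2
    simpa using h3

theorem isPGroup_J : IsPGroup 2 P.J := by
  have hQ : IsPGroup 2 Q := IsPGroup.of_card D.hS.2.2.2.1
  exact (hQ.comap_subtype (K := P.HE)).map P.θ

theorem card_J : Nat.card P.J = 512 := by
  let φ : Q.subgroupOf P.HE →* P.H1 := P.θ.comp (Q.subgroupOf P.HE).subtype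
  have hrange : φ.range = P.J := by rw [MonoidHom.range_comp, Subgroup.range_subtype]; rfl
  have hdom : Nat.card (Q.subgroupOf P.HE) = 2048 := by
    rw [← P.card_centralizer_KQ]
    refine Nat.card_congr ⟨fun x => ⟨⟨(x.1 : Cz z), x.2⟩, P.centralizer_KQ.2 (P.mem_HE_Q.1 x.1.2)⟩,
      fun q => ⟨⟨(q.1 : Cz z), P.mem_HE_Q.2 (P.centralizer_KQ.1 q.2)⟩, q.1.2⟩, fun _ => rfl, fun _ => rfl⟩
  have hker : Nat.card φ.ker = 4 := by
    rw [← P.card_E]
    refine Nat.card_eq_of_bijective (fun x => ⟨(((x.1.1 : P.HE) : Cz z) : G), P.θ_eq_one.1 (MonoidHom.mem_ker.1 x.2)⟩)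
      ⟨fun a b h => ?_, fun a => ?_⟩
    · exact Subtype.ext (Subtype.ext (Subtype.ext (Subtype.ext (congrArg (fun w : P.E => (w : G)) h))))
    · obtain ⟨q, hq⟩ := mem_inG.1 (P.E_le a.2)
      have hqE : q ∈ P.Eq := P.toG_mem_E.1 (by rw [hq]; exact a.2)
      have hqH : (q : Cz z) ∈ P.HE := Subgroup.mem_subgroupOf.2 (P.E_le_EC (P.toG_mem_E.2 hqE))
      exact ⟨⟨⟨⟨q, hqH⟩, q.2⟩, MonoidHom.mem_ker.2 (P.θ_eq_one.2 (P.toG_mem_E.2 hqE))⟩, Subtype.ext hq⟩
  have h := φ.ker.card_mul_index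
  rw [Subgroup.index_ker, hrange, hker, hdom] at h
  omega

/-- Elements with given coordinates commuting with the four-group. -/
theorem exists_lift_perp {w : QV Q} (hw : Perp C.F w) :
    ∃ q : Q, vec q = w ∧ (q : Cz z) ∈ P.HE := by
  obtain ⟨q, rfl⟩ := vec_surjective w
  refine ⟨q, rfl, P.mem_HE_Q.2 ⟨?_, ?_⟩⟩ <;> refine (bf_eq_zero_iff D.hS _ _).1 ?_
  · rw [P.ht]; exact polar_perp C.F hw _
  · rw [P.hu]; exact polar_perp C.F hw _

theorem J_extraspecial : Cfsg.IsExtraspecial 2 P.J := by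
  set zH : P.HE := ⟨(zin D.hS : Q), P.mem_HE_Q.2
    ⟨(Subgroup.mem_center_iff.1 ((mem_center_cases D.hS).2 (Or.inr rfl)) _).symm,
      (Subgroup.mem_center_iff.1 ((mem_center_cases D.hS).2 (Or.inr rfl)) _).symm⟩⟩ with hzH
  have hz2 : zH * zH = 1 := Subtype.ext (congrArg (fun q : Q => (q : Cz z)) (zin_sq D.hS))
  have hzne : P.θ zH ≠ 1 := fun h => P.z_not_mem (P.θ_eq_one.1 h)
  have cases : ∀ {h : P.HE} {q : Q}, (h : Cz z) = q → q = 1 ∨ q = zin D.hS → P.θ h = 1 ∨ P.θ h = P.θ zH := by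
    intro h q hq hc
    rcases hc with rfl | rfl
    · left; rw [show h = 1 from Subtype.ext hq, map_one]
    · right; rw [show h = zH from Subtype.ext hq]
  refine (CfsgLib.LargeExtraspecial.isExtraspecial_of_props (z := P.θ zH) P.isPGroup_J
    (orderOf_eq_prime (by rw [pow_two, ← map_mul, hz2, map_one]) hzne)
    ⟨zH, Subgroup.mem_subgroupOf.2 (zin D.hS).2, rfl⟩ ?_ ?_ ?_ ?_ ?_).1
  · rintro _ ⟨a, -, rfl⟩
    rw [← map_mul, ← map_mul]
    exact congrArg _ (Subtype.ext (Subtype.ext (Subgroup.mem_centralizer_singleton_iff.1 (a : Cz z).2)))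
  · rintro _ ⟨a, ha, rfl⟩
    rw [← map_mul]
    exact cases (q := ⟨_, ha⟩ * ⟨_, ha⟩) rfl (sq_center D.hS ⟨_, ha⟩)
  · rintro _ ⟨a, ha, rfl⟩ _ ⟨b, hb, rfl⟩
    rw [← map_inv, ← map_inv, ← map_mul, ← map_mul, ← map_mul]
    exact cases (q := ⁅(⟨_, ha⟩ : Q), ⟨_, hb⟩⁆) (by simp [commutatorElement_def]) (comm_center D.hS _ _)
  · rintro _ ⟨a, ha, rfl⟩ hall
    let q : Q := ⟨(a : Cz z), ha⟩
    have hcom : ∀ r ∈ Subgroup.centralizer (P.KQ : Set Q), q * r = r * q := by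
      intro r hr
      obtain ⟨h1, h2⟩ := P.centralizer_KQ.1 hr
      have hm := P.mem_HE_of_commute h1 h2
      have h := P.Gb_eq (a := a) (b := ⟨_, hm⟩) (hall _ ⟨⟨_, hm⟩, r.2, rfl⟩).symm
      rcases comm_center D.hS q r with e | e
      · exact commutatorElement_eq_one_iff_mul_comm.1 e
      · exfalso
        refine P.z_not_mem ?_
        have this : toG ⁅q, r⁆ = z := by rw [e]; rfl
        have h' : toG ⁅q, r⁆ ∈ P.E := by
          rw [commutatorElement_def]; exact h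
        rwa [this] at h'
    have hq : q ∈ P.KQ := by
      haveI : Fact (Nat.Prime 2) := ⟨Nat.prime_two⟩
      rw [← CfsgLib.ExtraspecialBasic.centralizer_centralizer D.hS.2.2.1 (K := P.KQ) le_sup_right]
      exact Subgroup.mem_centralizer_iff.2 fun r hr => (hcom r hr).symm
    obtain ⟨e, he, c, hc, hec⟩ := P.mem_KQ.1 hq
    have hcH : (c : Cz z) ∈ P.HE := P.mem_HE_of_commute
      (Subgroup.mem_center_iff.1 hc _).symm (Subgroup.mem_center_iff.1 hc _).symm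
    have heH : (e : Cz z) ∈ P.HE := Subgroup.mem_subgroupOf.2 (P.E_le_EC (P.toG_mem_E.2 he))
    have ha' : a = ⟨_, heH⟩ * ⟨_, hcH⟩ := Subtype.ext (congrArg (fun r : Q => (r : Cz z)) hec).symm
    rw [ha', map_mul, P.θ_eq_one.2 (P.toG_mem_E.2 he), one_mul]
    exact cases rfl ((mem_center_cases D.hS).1 hc)
  · obtain ⟨w₁, w₂, h1, h2, hb⟩ : ∃ w₁ w₂ : QV Q, Perp C.F w₁ ∧ Perp C.F w₂ ∧ bf D.hS w₁ w₂ ≠ 0 := by
      refine ⟨C.F.coord.symm ![0, 0, (1, 0), 0, 0, 0], C.F.coord.symm ![0, 0, (0, 1), 0, 0, 0], ?_, ?_, ?_⟩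
      · show C.F.coord _ 0 = C.F.coord _ 1
        rw [AddEquiv.apply_symm_apply]; rfl
      · show C.F.coord _ 0 = C.F.coord _ 1
        rw [AddEquiv.apply_symm_apply]; rfl
      · show D.setting.b _ _ ≠ 0
        rw [polar_eq C.F, AddEquiv.apply_symm_apply, AddEquiv.apply_symm_apply, Fin.sum_univ_six]
        decide
    obtain ⟨q₁, rfl, m1⟩ := P.exists_lift_perp h1
    obtain ⟨q₂, rfl, m2⟩ := P.exists_lift_perp h2
    refine ⟨_, ⟨⟨_, m1⟩, q₁.2, rfl⟩, _, ⟨⟨_, m2⟩, q₂.2, rfl⟩, fun e => hb ?_⟩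
    rw [bf_eq_zero_iff]
    have h := P.Gb_eq e
    rcases comm_center D.hS q₁ q₂ with e' | e'
    · exact commutatorElement_eq_one_iff_mul_comm.1 e'
    · exfalso
      refine P.z_not_mem ?_
      have this : toG ⁅q₁, q₂⁆ = z := by rw [e']; rfl
      have h' : toG ⁅q₁, q₂⁆ ∈ P.E := by rw [commutatorElement_def]; exact h
      rwa [this] at h'

theorem pCore_eq : Cfsg.pCore 2 P.H1 = P.J := by
  haveI := simple_stab (C := C)
  haveI hJn : P.J.Normal := P.ker_χ ▸ inferInstance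
  refine le_antisymm ?_ (CfsgLib.Components.le_pCore P.isPGroup_J)
  rw [← P.ker_χ, ← Subgroup.map_eq_bot_iff]
  haveI : ((Cfsg.pCore 2 P.H1).map P.χ).Normal :=
    Subgroup.Normal.map (Subgroup.sSup_normal _ fun _ h => h.1) P.χ P.χ_surjective
  refine (Subgroup.Normal.eq_bot_or_eq_top inferInstance).resolve_right fun h => ?_
  have hp : IsPGroup 2 ((Cfsg.pCore 2 P.H1).map P.χ) := (CfsgLib.Components.isPGroup_pCore 2).map P.χ
  rw [h] at hp
  haveI : Fact (Nat.Prime 2) := ⟨Nat.prime_two⟩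
  obtain ⟨n, hn⟩ := IsPGroup.iff_card.1 hp
  rw [Subgroup.card_top, card_stab (C := C)] at hn
  have h5 : 5 ∣ 2 ^ n := ⟨5184, hn.symm⟩
  exact absurd (Nat.Prime.dvd_of_dvd_pow (by norm_num) h5) (by norm_num)

theorem centralizer_pCore_le :
    Subgroup.centralizer (Cfsg.pCore 2 P.H1 : Set P.H1) ≤ Cfsg.pCore 2 P.H1 := by
  rw [P.pCore_eq]
  intro y hy
  obtain ⟨h, rfl⟩ := P.θ_surjective y
  rw [← P.ker_χ, MonoidHom.mem_ker, P.χ_θ]
  refine linR_injective C.F (card_stab (C := C)) (five D) (LinearMap.ext fun v => ?_)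
  obtain ⟨q, hq, hm⟩ := P.exists_lift_perp (perp_E4 C.F v)
  have hJ : P.θ ⟨_, hm⟩ ∈ P.J := ⟨⟨_, hm⟩, q.2, rfl⟩
  have hE := P.Gb_eq (Subgroup.mem_centralizer_iff.1 hy _ hJ).symm
  have e : ((h : Cz z) : G) * ((q : Cz z) : G) * ((h : Cz z) : G)⁻¹ * ((q : Cz z) : G)⁻¹ =
      toG (conjIn (h : Cz z) q * q⁻¹) := by
    show _ = toG (conjIn (h : Cz z) q) * (toG q)⁻¹
    rw [conjIn_toG]
  rw [e, P.toG_mem_E] at hE
  obtain ⟨a, ha, -⟩ := P.vec_Eq hE
  have hinv : vec q⁻¹ = vec q := by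
    have h0 : vec (q⁻¹ * q) = 0 := by rw [inv_mul_cancel, vec_one]
    rw [vec_mul] at h0
    rw [← add_right_cancel_iff (a := vec q), h0, QV_two D.hS]
  have hv : act (QuotientGroup.mk (h : Cz z) : Cz z ⧸ Q) (E4 C.F v) = E4 C.F v + D1 C.F a := by
    rw [← hq, act_mk D.hS, actC_vec]
    rw [vec_mul, hinv] at ha
    rw [← ha, add_comm (vec q), add_assoc, QV_two D.hS, add_zero]
  show last4 C.F (D.setting.φ ((P.ψ h : stabBase C.F) : D.L) (E4 C.F v)) = v
  rw [show D.setting.φ ((P.ψ h : stabBase C.F) : D.L) (E4 C.F v) = E4 C.F v + D1 C.F a from hv,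
    last4_add, last4_E4, last4_D1, add_zero]

theorem exists_quot_iso [hn : (Cfsg.pCore 2 P.H1).Normal] :
    Nonempty (P.H1 ⧸ Cfsg.pCore 2 P.H1 ≃* Cfsg.PSp 2 (ZMod 3)) := by
  obtain ⟨e⟩ := exists_iso_su C.F (card_stab (C := C)) (five D)
  obtain ⟨e'⟩ := CfsgLib.Forms.UFourTwo.iso_model
  exact ⟨(((QuotientGroup.quotientMulEquivOfEq (P.pCore_eq.trans P.ker_χ.symm)).trans
    (QuotientGroup.quotientKerEquivOfSurjective _ P.χ_surjective)).trans e).trans e'⟩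

end CfsgLib.LargeFischerE.Pair
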