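import Mathlib

/-!
Orbits of pairs under conjugation, and a criterion against a centralizer covering a group modulo an odd normal
subgroup.
-/

set_option autoImplicit false

open scoped Pointwise

namespace CfsgLib.LargeFischerE

variable {G : Type*} [Group G]

/-- The orbit of an element under conjugation by a subgroup. -/
def orb (X : Subgroup G) (u : G) : Set G := {v | ∃ m ∈ X, m * u * m⁻¹ = v}

theorem card_orb_mul (X : Subgroup G) (u : G) :
    Nat.card (orb X u) * Nat.card (X ⊓ Subgroup.centralizer ({u} : Set G) : Subgroup G) = Nat.card X := by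
  classical
  letI : MulAction X G :=
    { smul := fun m v => (m : G) * v * (m : G)⁻¹
      one_smul := fun v => show ((1 : X) : G) * v * ((1 : X) : G)⁻¹ = v by simp
      mul_smul := fun m n v =>
        show ((m * n : X) : G) * v * ((m * n : X) : G)⁻¹ = (m : G) * ((n : G) * v * (n : G)⁻¹) * (m : G)⁻¹ by
          simp only [Subgroup.coe_mul]; group }
  have hst : MulAction.stabilizer X u = (Subgroup.centralizer ({u} : Set G)).subgroupOf X := by
    ext m
    show (m : G) * u * (m : G)⁻¹ = u ↔ _
    rw [Subgroup.mem_subgroupOf, Subgroup.mem_centralizer_singleton_iff]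
    constructor
    · intro h
      conv_rhs => rw [← h]
      group
    · intro h
      rw [h]; group
  have ho : MulAction.orbit X u = orb X u := by
    ext v
    exact ⟨fun ⟨m, hm⟩ => ⟨m, m.2, hm⟩, fun ⟨m, hm, e⟩ => ⟨⟨m, hm⟩, e⟩⟩
  have h := (MulAction.stabilizer X u).index_mul_card
  rw [MulAction.index_stabilizer, ho, hst, ← Nat.card_coe_set_eq] at h
  rw [← h, ← Subgroup.inf_subgroupOf_left, Nat.card_congr (Subgroup.subgroupOfEquivOfLe inf_le_left).toEquiv]

/-- An orbit closed under a fixed-point-free involutory map has even size. -/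
theorem even_card_of_involution {α : Type*} [Finite α] (f : α → α) (hf : ∀ a, f (f a) = a) (hne : ∀ a, f a ≠ a) :
    2 ∣ Nat.card α := by
  classical
  haveI := Fintype.ofFinite α
  haveI : Fact (Nat.Prime 2) := ⟨Nat.prime_two⟩
  let σ : Equiv.Perm α := ⟨f, f, hf, hf⟩
  have hσ : σ ^ 2 ^ 1 = 1 := Equiv.ext fun a => by
    rw [pow_one, pow_two, Equiv.Perm.mul_apply]
    exact hf a
  have hmod := Equiv.Perm.card_compl_support_modEq hσ
  have hemp : σ.supportᶜ = ∅ := by
    ext a
    simp only [Finset.mem_compl, Equiv.Perm.mem_support, not_not, Finset.notMem_empty, iff_false]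
    exact hne a
  rw [hemp, Finset.card_empty, ← Nat.card_eq_fintype_card] at hmod
  exact Nat.modEq_zero_iff_dvd.1 hmod.symm

/-- An involution commuting with another of its conjugates is not isolated modulo an odd normal subgroup. -/
theorem sup_ne_top {O : Subgroup G} [O.Normal] (hodd : Odd (Nat.card O)) {z : G} (hz : z * z = 1) {c : G}
    (hne : c * z * c⁻¹ ≠ z) (hcom : Commute (c * z * c⁻¹) z) :
    Subgroup.centralizer ({z} : Set G) ⊔ O ≠ ⊤ := by
  intro htop
  obtain ⟨h, hh, o, ho, rfl⟩ : c ∈ ((Subgroup.centralizer ({z} : Set G) : Set G) * (O : Set G)) := by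
    rw [← Subgroup.mul_normal, htop]; exact Subgroup.mem_top _
  have hh' : h * z = z * h := Subgroup.mem_centralizer_singleton_iff.1 hh
  set y := o * z * o⁻¹ with hy
  have hzh : h * z * h⁻¹ = z := by rw [hh']; group
  have hcy : h * o * z * (h * o)⁻¹ = h * y * h⁻¹ := by rw [hy]; group
  rw [hcy] at hne hcom
  have hyz : Commute y z := by
    have := hcom.map (MulAut.conj h⁻¹).toMonoidHom
    simp only [MulEquiv.coe_toMonoidHom, MulAut.conj_apply, inv_inv] at this
    have e : h⁻¹ * z * h = z := by
      conv_lhs => rw [← hzh]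
      group
    rwa [e, show h⁻¹ * (h * y * h⁻¹) * h = y by group] at this
  have hzi : z⁻¹ = z := inv_eq_of_mul_eq_one_right hz
  have hy2 : y * y = 1 := by
    calc y * y = o * (z * z) * o⁻¹ := by rw [hy]; group
      _ = 1 := by rw [hz]; group
  have hmem : y * z ∈ O := by
    have e : y * z = o * (z * o⁻¹ * z⁻¹) := by rw [hy, hzi]; group
    rw [e]
    exact O.mul_mem ho ((inferInstance : O.Normal).conj_mem _ (O.inv_mem ho) z)
  have hsq : (y * z) ^ 2 = 1 := by rw [hyz.mul_pow, pow_two, pow_two, hy2, hz, one_mul]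
  have h1 : orderOf (y * z) ∣ 2 := orderOf_dvd_of_pow_eq_one hsq
  have h2 : orderOf (y * z) ∣ Nat.card O := by
    rw [show y * z = ((⟨_, hmem⟩ : O) : G) from rfl, Subgroup.orderOf_coe]
    exact orderOf_dvd_natCard _
  have h3 : orderOf (y * z) = 1 := by
    rcases (Nat.dvd_prime Nat.prime_two).1 h1 with e | e
    · exact e
    · rw [e] at h2
      exact absurd hodd (Nat.not_odd_iff_even.2 (even_iff_two_dvd.2 h2))
  have h4 : y = z := by
    rw [orderOf_eq_one_iff, mul_eq_one_iff_eq_inv, hzi] at h3
    exact h3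
  exact hne (by rw [h4, hzh])

end CfsgLib.LargeFischerE
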