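import Cfsg.Agent.LargeFischerE.Local
import Cfsg.Agent.LargeFischerE.Quad

/-!
The centralizer of the four-group moves `z` inside the elementary abelian subgroup of order 2048: otherwise
the pairs of its elements in the normalizer would form an orbit of impossible size.
-/

set_option autoImplicit false
set_option linter.unusedSectionVars false
set_option linter.style.haveILetI false
set_option maxHeartbeats 1000000

namespace CfsgLib.LargeFischerE

open Cfsg CfsgLib.LargeFischer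

variable {G : Type*} [Group G] [Finite G] {z : G} {Q : Subgroup (Cz z)} [Q.Normal] {D : Data z Q} {C : Coords D}

/-- The three pairs. -/
def triple (b : Fin 3) (a : W) : W × W × W := ![(a, 0, 0), (0, a, 0), (0, 0, a)] b

theorem triple_injective : Function.Injective fun p : ZMod 3 × Fin 3 => triple p.2 (rk p.1 (1, 0)) := by
  decide +kernel

/-- The permutation of the three pairs. -/
def shift : Equiv.Perm (Fin 6) := (Equiv.swap 0 2 * Equiv.swap 2 4) * (Equiv.swap 1 3 * Equiv.swap 3 5)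

theorem shift_mem : shift ∈ alternatingGroup (Fin 6) :=
  Equiv.Perm.mem_alternatingGroup.2 (by decide +kernel)

theorem shift_values : shift 0 = 2 ∧ shift 1 = 3 ∧ shift 2 = 4 ∧ shift 3 = 5 ∧ shift 4 = 0 ∧ shift 5 = 1 := by
  decide +kernel

theorem exists_scale (C : Coords D) (j : ZMod 3) :
    ∃ h ∈ LargeFischerJ.N0 C, act h (v0 C.F) = C.F.coord.symm (LargeFischerJ.Calc.pairs (triple 0 (rk j (1, 0)))) := by
  obtain ⟨l, hl⟩ := C.F.diag ![j, j, 2 * j, 2 * j, 0, 0]
    ((by decide : ∀ j : ZMod 3, ∑ i, (![j, j, 2 * j, 2 * j, 0, 0] : Fin 6 → ZMod 3) i = 0) j)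
  refine ⟨(l : Cz z ⧸ Q), LargeFischerJ.mem_N0_of_maps C fun v hv => ?_, C.F.coord.injective (funext fun i => ?_)⟩
  · obtain ⟨h0, h1, h2⟩ := (LargeFischerJ.mem_planeS C).1 hv
    rw [LargeFischerJ.mem_planeS]
    refine ⟨?_, ?_, ?_⟩ <;>
    · show C.F.coord (D.setting.φ l v) _ = C.F.coord (D.setting.φ l v) _
      rw [hl, hl]
      simp [h0, h1, h2]
  · show C.F.coord (D.setting.φ l (v0 C.F)) i = _
    rw [hl, coord_v0, AddEquiv.apply_symm_apply]
    fin_cases i <;> simp [vBase, LargeFischerJ.Calc.pairs, triple, rk] <;>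
      first | rfl | (split_ifs <;> rfl)

theorem exists_shift (C : Coords D) : ∃ h ∈ LargeFischerJ.N0 C, ∀ t : W × W × W,
    act h (C.F.coord.symm (LargeFischerJ.Calc.pairs t)) =
      C.F.coord.symm (LargeFischerJ.Calc.pairs (t.2.2, t.1, t.2.1)) := by
  obtain ⟨l, hl⟩ := C.F.perm shift shift_mem
  obtain ⟨s0, s1, s2, s3, s4, s5⟩ := shift_values
  have key : ∀ t : W × W × W, act (l : Cz z ⧸ Q) (C.F.coord.symm (LargeFischerJ.Calc.pairs t)) =
      C.F.coord.symm (LargeFischerJ.Calc.pairs (t.2.2, t.1, t.2.1)) := by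
    intro t
    have e : ∀ i, C.F.coord (act (l : Cz z ⧸ Q) (C.F.coord.symm (LargeFischerJ.Calc.pairs t))) (shift i) =
        LargeFischerJ.Calc.pairs t i := fun i =>
      (hl _ i).trans (congrFun (C.F.coord.apply_symm_apply _) i)
    have e0 := e 0; have e1 := e 1; have e2 := e 2; have e3 := e 3; have e4 := e 4; have e5 := e 5
    rw [s0] at e0; rw [s1] at e1; rw [s2] at e2; rw [s3] at e3; rw [s4] at e4; rw [s5] at e5
    refine C.F.coord.injective (funext fun i => ?_)
    rw [AddEquiv.apply_symm_apply]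
    fin_cases i
    exacts [e4, e5, e0, e1, e2, e3]
  refine ⟨_, LargeFischerJ.mem_N0_of_maps C fun v hv => ?_, key⟩
  have e : v = C.F.coord.symm (LargeFischerJ.Calc.pairs (C.F.coord v 0, C.F.coord v 2, C.F.coord v 4)) := by
    rw [LargeFischerJ.Calc.pairs_of_inU ((LargeFischerJ.mem_planeS C).1 hv), AddEquiv.symm_apply_apply]
  rw [e, key]
  exact LargeFischerJ.planeS_pairs C _

/-- The nine vectors of weight two in the plane are images of the first one. -/
theorem exists_mono_pair (C : Coords D) (p : ZMod 3 × Fin 3) :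
    ∃ h ∈ LargeFischerJ.N0 C, act h (v0 C.F) =
      C.F.coord.symm (LargeFischerJ.Calc.pairs (triple p.2 (rk p.1 (1, 0)))) := by
  obtain ⟨d, hd, hd'⟩ := exists_scale C p.1
  obtain ⟨s, hs, hs'⟩ := exists_shift C
  obtain ⟨j, b⟩ := p
  fin_cases b
  · exact ⟨d, hd, hd'⟩
  · refine ⟨s * d, mul_mem hs hd, ?_⟩
    rw [act_mul D.hS, hd', hs']
    rfl
  · refine ⟨s * (s * d), mul_mem hs (mul_mem hs hd), ?_⟩
    rw [act_mul D.hS, act_mul D.hS, hd', hs', hs']
    rfl

theorem arith {a b o : ℕ} (h : 276 * o = 1771 * (a * b)) (ha : 13 ≤ a) (hb : 2 ≤ b) (ho : o ≤ 275) :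
    o = 231 := by
  have : 26 ≤ a * b := le_trans (by norm_num) (Nat.mul_le_mul ha hb)
  omega

theorem exists_move {T1 : Sylow 2 (Cz z)} {B : Subgroup (Cz z)} (hA : LargeFischerJ.Anchor C T1 B) (P : Pair C) :
    ∃ c ∈ P.EC, c * z * c⁻¹ ≠ z ∧ Commute (c * z * c⁻¹) z := by
  classical
  have L := hA.layer
  set A := B.map (Cz z).subtype with hAdef
  set N := Subgroup.normalizer (A : Set G) with hN
  set NZ := N ⊓ Cz z with hNZ
  set St := N ⊓ Subgroup.centralizer ({toG P.t} : Set G) with hSt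
  set S := St ⊓ Subgroup.centralizer ({toG P.u} : Set G) with hS
  set TT := NZ ⊓ Subgroup.centralizer ({toG P.t} : Set G) with hTT
  have hplane : ∀ a : W, D1 C.F a ∈ LargeFischerJ.planeS C := fun a => by
    rw [LargeFischerJ.mem_planeS, coord_D1]
    exact ⟨rfl, rfl, rfl⟩
  have hEA : ∀ q ∈ P.Eq, toG q ∈ A := fun q hq => by
    obtain ⟨a, ha, -⟩ := P.vec_Eq hq
    exact ⟨(q : Cz z), (hA.memQ q).2 (ha ▸ hplane a), rfl⟩
  have hoth : ∀ q ∈ P.Eq, q ≠ 1 → toG q ∈ LargeFischerJ.Layer.others z A := fun q hq hne =>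
    ⟨hEA q hq, fun e => hne (qIncl_injective Q (e.trans (map_one (qIncl Q)).symm)), P.not_isConj hq hne⟩
  have htE : P.t ∈ P.Eq := Or.inr (Or.inl rfl)
  have huE : P.u ∈ P.Eq := Or.inr (Or.inr (Or.inl rfl))
  have hne : ∀ {q : Q} {a : W}, vec q = D1 C.F a → a ≠ 0 → q ≠ 1 := fun {q a} h ha e =>
    D1_ne_zero C ha (by rw [← h, e, vec_one])
  have ht1 : P.t ≠ 1 := hne P.ht (by decide)
  have hu1 : P.u ≠ 1 := hne P.hu (by decide)
  have htu1 : P.t * P.u ≠ 1 := hne P.vec_mul_tu (by decide)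
  have htu : P.t ≠ P.u := fun e => by
    have h := P.ht
    rw [e, P.hu] at h
    exact absurd (D1_injective C h) (by decide)
  by_contra hcon
  push Not at hcon
  have hSz : S ≤ Cz z := by
    intro c hc
    by_contra hcz
    have hcE : c ∈ P.EC := P.mem_EC_iff.2 ⟨Subgroup.mem_centralizer_singleton_iff.1 hc.1.2,
      Subgroup.mem_centralizer_singleton_iff.1 hc.2⟩
    refine hcon c hcE (fun e => hcz (Subgroup.mem_centralizer_singleton_iff.2 (mul_inv_eq_iff_eq_mul.1 e))) ?_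
    exact L.comm (L.conj_mem hc.1.1 L.z_mem) L.z_mem
  -- orbit sizes
  have hNcard : Nat.card N = 1771 * Nat.card NZ := by
    rw [hNZ, L.cardN, hN, L.card_normalizer, L.main.1]
  have hcl : ∀ m ∈ N, ∀ c ∈ LargeFischerJ.Layer.others z A, m * c * m⁻¹ ∈ LargeFischerJ.Layer.others z A := fun m hm c hc =>
    ⟨L.conj_mem hm hc.1, fun h => hc.2.1 (conj_eq_one_iff.1 h), fun h => hc.2.2 (by
      have := LargeFischerJ.Layer.isConj_conj (m := m⁻¹) h
      simpa [mul_assoc] using this)⟩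
  have ho276 : Nat.card (orb N (toG P.t)) = 276 := by
    rw [show orb N (toG P.t) = LargeFischerJ.Layer.others z A from Set.Subset.antisymm
      (by rintro _ ⟨m, hm, rfl⟩; exact hcl m hm _ (hoth _ htE ht1))
      (fun c hc => L.others_transitive (hoth _ htE ht1) hc)]
    exact L.card_others
  have e1 := card_orb_mul N (toG P.t)
  have e2 := card_orb_mul St (toG P.u)
  have e3 := card_orb_mul NZ (toG P.t)
  have e4 := card_orb_mul TT (toG P.u)
  rw [ho276, ← hSt] at e1
  rw [← hS] at e2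
  rw [← hTT] at e3
  have hTS : TT ⊓ Subgroup.centralizer ({toG P.u} : Set G) = S := by
    ext c
    simp only [hTT, hNZ, hS, hSt, Subgroup.mem_inf]
    exact ⟨fun h => ⟨⟨h.1.1.1, h.1.2⟩, h.2⟩, fun h =>
      ⟨⟨⟨h.1.1, hSz (show c ∈ S from ⟨⟨h.1.1, h.1.2⟩, h.2⟩)⟩, h.1.2⟩, h.2⟩⟩
  rw [hTS] at e4
  have hb : 2 ≤ Nat.card (orb TT (toG P.u)) := by
    obtain ⟨q, hq1, hq2⟩ := P.exists_q 0 1
    have hqc : conjIn (q : Cz z) P.u = P.u * zin D.hS := by rw [Pair.conjIn_q (D := D), hq2, zp_one]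
    have hqt : toG q * toG P.t = toG P.t * toG q :=
      congrArg (fun a : Q => toG a) (((bf_eq_zero_iff D.hS q P.t).1 hq1).eq : q * P.t = P.t * q)
    have hmem : toG q ∈ TT := ⟨⟨(L.R_le (mem_inG.2 ⟨q, rfl⟩)).1, (L.R_le (mem_inG.2 ⟨q, rfl⟩)).2⟩,
      Subgroup.mem_centralizer_singleton_iff.2 hqt⟩
    rw [Nat.card_coe_set_eq]
    refine (Set.one_lt_ncard (Set.toFinite _)).2 ⟨toG P.u, ⟨1, one_mem _, by group⟩,
      toG (P.u * zin D.hS), ⟨toG q, hmem, ?_⟩, fun e => ?_⟩
    · rw [← hqc, conjIn_toG]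
    · exact zin_ne_one D.hS (left_eq_mul.1 (qIncl_injective Q (show qIncl Q P.u = qIncl Q (P.u * zin D.hS) from e)))
  have hN0 : ∀ h ∈ LargeFischerJ.N0 C, ∀ n : Cz z, (QuotientGroup.mk n : Cz z ⧸ Q) = h → (n : G) ∈ NZ := by
    intro h hh n hn
    have hnN : n ∈ Subgroup.normalizer (B : Set (Cz z)) := by
      rw [hA.normalizer_eq, Subgroup.mem_comap, QuotientGroup.mk'_apply, hn]; exact hh
    exact ⟨Subgroup.le_normalizer_map (f := (Cz z).subtype) ⟨n, hnN, rfl⟩, n.2⟩
  have ha : 13 ≤ Nat.card (orb NZ (toG P.t)) := by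
    choose h hh hact using exists_mono_pair C
    choose n hn using fun p => QuotientGroup.mk_surjective (h p)
    obtain ⟨r, hr, -⟩ := P.exists_q 1 0
    have hrc : conjIn (r : Cz z) P.t = P.t * zin D.hS := by rw [Pair.conjIn_q (D := D), hr, zp_one]
    have hrN : toG r ∈ NZ := ⟨(L.R_le (mem_inG.2 ⟨r, rfl⟩)).1, (L.R_le (mem_inG.2 ⟨r, rfl⟩)).2⟩
    have hmem : ∀ p s, toG (conjIn (n p) P.t * zp D.hS s) ∈ orb NZ (toG P.t) := by
      intro p s
      have hn' := hN0 _ (hh p) _ (hn p)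
      rcases (by decide : ∀ s : ZMod 2, s = 0 ∨ s = 1) s with rfl | rfl
      · rw [zp_zero, mul_one, conjIn_toG]
        exact ⟨_, hn', rfl⟩
      · refine ⟨(n p : G) * toG r, mul_mem hn' hrN, ?_⟩
        rw [show conjIn (n p) P.t * zp D.hS 1 = conjIn (n p) (conjIn (r : Cz z) P.t) by
          rw [hrc, map_mul, ← zp_one (hS := D.hS), conjIn_zp], conjIn_toG, conjIn_toG]
        show (n p : G) * ((r : Cz z) : G) * toG P.t * ((n p : G) * ((r : Cz z) : G))⁻¹ = _
        group
    let f : (ZMod 3 × Fin 3) × ZMod 2 → orb NZ (toG P.t) := fun x => ⟨_, hmem x.1 x.2⟩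
    have hinj : Function.Injective f := by
      rintro ⟨p, s⟩ ⟨p', s'⟩ e
      have e0 : toG (conjIn (n p) P.t * zp D.hS s) = toG (conjIn (n p') P.t * zp D.hS s') :=
        congrArg (fun w : orb NZ (toG P.t) => (w : G)) e
      have e' : conjIn (n p) P.t * zp D.hS s = conjIn (n p') P.t * zp D.hS s' :=
        qIncl_injective Q e0
      have hv : ∀ p, vec (conjIn (n p) P.t) =
          C.F.coord.symm (LargeFischerJ.Calc.pairs (triple p.2 (rk p.1 (1, 0)))) := fun p => by
        rw [← actC_vec, ← act_mk D.hS, hn, P.ht, D1_one, hact]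
      have hp : p = p' := by
        have h1 := congrArg vec e'
        rw [vec_mul, vec_mul, (vec_eq_zero D.hS).2 (zp_mem (hS := D.hS) s), (vec_eq_zero D.hS).2 (zp_mem (hS := D.hS) s'), add_zero,
          add_zero, hv, hv] at h1
        exact triple_injective (LargeFischerJ.Calc.pairs_inj (C.F.coord.symm.injective h1))
      subst hp
      have hs : zp D.hS (s + s') = 1 := by
        rw [zp_add, mul_left_cancel e', ← zp_add, (by decide : ∀ e : ZMod 2, e + e = 0) s', zp_zero]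
      rw [(by decide : ∀ a b : ZMod 2, a + b = 0 → a = b) s s' (zp_eq_one (hS := D.hS) hs)]
    refine le_trans ?_ (Nat.card_le_card_of_injective f hinj)
    rw [Nat.card_prod, Nat.card_prod, Nat.card_zmod, Nat.card_zmod, Nat.card_fin]
    norm_num
  -- the orbit of the second element under the stabiliser of the first
  have hsub : ∀ w, (∃ q ∈ P.Eq, q ≠ 1 ∧ toG q = w) → w ≠ toG P.t →
      orb St w ⊆ LargeFischerJ.Layer.others z A \ {toG P.t} := by
    rintro w ⟨q, hq, hq1, rfl⟩ hwt _ ⟨m, hm, rfl⟩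
    refine ⟨hcl m hm.1 _ (hoth q hq hq1), fun e => hwt ?_⟩
    rw [Set.mem_singleton_iff] at e
    have e' := Subgroup.mem_centralizer_singleton_iff.1 hm.2
    rw [mul_inv_eq_iff_eq_mul, ← e'] at e
    exact mul_left_cancel e
  have hu_ne : toG P.u ≠ toG P.t := fun e => htu (qIncl_injective Q e).symm
  have htu_ne : toG (P.t * P.u) ≠ toG P.t := fun e =>
    hu1 (mul_eq_left.1 (qIncl_injective Q (show qIncl Q (P.t * P.u) = qIncl Q P.t from e)))
  have hsmall : (LargeFischerJ.Layer.others z A \ {toG P.t}).ncard = 275 := by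
    rw [Set.ncard_sdiff_singleton_of_mem (hoth _ htE ht1), ← Nat.card_coe_set_eq, L.card_others]
  have hS' : St ⊓ Subgroup.centralizer ({toG (P.t * P.u)} : Set G) = S := by
    ext c
    simp only [hS, hSt, Subgroup.mem_inf, Subgroup.mem_centralizer_singleton_iff]
    have e : toG (P.t * P.u) = toG P.t * toG P.u := rfl
    constructor
    · rintro ⟨⟨hc, h1⟩, h2⟩
      refine ⟨⟨hc, h1⟩, ?_⟩
      rw [e, ← mul_assoc, h1, mul_assoc, mul_assoc] at h2
      exact mul_left_cancel h2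
    · rintro ⟨⟨hc, h1⟩, h2⟩
      refine ⟨⟨hc, h1⟩, ?_⟩
      rw [e, ← mul_assoc, h1, mul_assoc, h2, ← mul_assoc]
  have e5 := card_orb_mul St (toG (P.t * P.u))
  rw [hS'] at e5
  have hSpos : 0 < Nat.card S := Nat.card_pos
  set o := Nat.card (orb St (toG P.u)) with hodef
  have ho' : Nat.card (orb St (toG (P.t * P.u))) = o := Nat.eq_of_mul_eq_mul_right hSpos (e5.trans e2.symm)
  have hole : o ≤ 275 := by
    rw [hodef, Nat.card_coe_set_eq, ← hsmall]
    exact Set.ncard_le_ncard (hsub _ ⟨_, huE, hu1, rfl⟩ hu_ne) (Set.toFinite _)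
  have heq : 276 * o = 1771 * (Nat.card (orb NZ (toG P.t)) * Nat.card (orb TT (toG P.u))) := by
    refine Nat.eq_of_mul_eq_mul_right hSpos ?_
    rw [mul_assoc, e2, e1, hNcard, mul_assoc, mul_assoc, e4, e3]
  have ho : o = 231 := arith heq ha hb hole
  by_cases hsame : orb St (toG (P.t * P.u)) = orb St (toG P.u)
  · have htt : toG P.t * toG P.t = 1 := (congrArg (qIncl Q) P.t_sq).trans (map_one _)
    have hclosed : ∀ v ∈ orb St (toG P.u), toG P.t * v ∈ orb St (toG P.u) := by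
      rintro v ⟨m, hm, rfl⟩
      rw [← hsame]
      refine ⟨m, hm, ?_⟩
      show m * (toG P.t * toG P.u) * m⁻¹ = _
      rw [← mul_assoc m, Subgroup.mem_centralizer_singleton_iff.1 hm.2]
      group
    have h2 := even_card_of_involution (α := orb St (toG P.u)) (fun v => ⟨_, hclosed v v.2⟩)
      (fun v => Subtype.ext (by
        show toG P.t * (toG P.t * v) = v
        rw [← mul_assoc, htt, one_mul]))
      (fun v e => ht1 (qIncl_injective Q (by
        rw [map_one]
        exact mul_eq_right.1 (congrArg Subtype.val e))))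
    rw [← hodef, ho] at h2
    norm_num at h2
  · have hdis : Disjoint (orb St (toG (P.t * P.u))) (orb St (toG P.u)) := by
      rw [Set.disjoint_left]
      rintro v ⟨m, hm, rfl⟩ ⟨k, hk, e⟩
      refine hsame (Set.ext fun w => ⟨?_, ?_⟩)
      · rintro ⟨p, hp, rfl⟩
        refine ⟨p * (m⁻¹ * k), mul_mem hp (mul_mem (inv_mem hm) hk), ?_⟩
        calc p * (m⁻¹ * k) * toG P.u * (p * (m⁻¹ * k))⁻¹ = p * (m⁻¹ * (k * toG P.u * k⁻¹) * m) * p⁻¹ := by group
          _ = p * toG (P.t * P.u) * p⁻¹ := by rw [e]; group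
      · rintro ⟨p, hp, rfl⟩
        refine ⟨p * (k⁻¹ * m), mul_mem hp (mul_mem (inv_mem hk) hm), ?_⟩
        calc p * (k⁻¹ * m) * toG (P.t * P.u) * (p * (k⁻¹ * m))⁻¹
            = p * (k⁻¹ * (m * toG (P.t * P.u) * m⁻¹) * k) * p⁻¹ := by group
          _ = p * toG P.u * p⁻¹ := by rw [← e]; group
    have hle : (orb St (toG (P.t * P.u)) ∪ orb St (toG P.u)).ncard ≤ 275 := hsmall ▸
      Set.ncard_le_ncard (Set.union_subset (hsub _ ⟨_, Or.inr (Or.inr (Or.inr rfl)), htu1, rfl⟩ htu_ne)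
        (hsub _ ⟨_, huE, hu1, rfl⟩ hu_ne)) (Set.toFinite _)
    rw [Set.ncard_union_eq hdis, ← Nat.card_coe_set_eq, ← Nat.card_coe_set_eq, ho', ← hodef, ho] at hle
    omega

end CfsgLib.LargeFischerE
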