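import Cfsg.Agent.LargeFischerE.Local

/-!
The four-group lies in the derived group of its centralizer: commutators of the centralizer with elements of `Q`
cover the scalar line.
-/

set_option autoImplicit false
set_option linter.unusedSectionVars false
set_option linter.style.haveILetI false
set_option maxHeartbeats 1000000
set_option synthInstance.maxSize 4096
set_option synthInstance.maxHeartbeats 200000

namespace CfsgLib.LargeFischerE

open Cfsg CfsgLib.LargeFischer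
open scoped commutatorElement

theorem exists_code : ∀ c : ZMod 3, ∃ p ∈ LargeFischerJ.Calc.evenList c, p.2.1 ≠ 0 := by decide +kernel

theorem span_two : ∀ a b d : W, a ≠ 0 → b ≠ 0 → a ≠ b → d = 0 ∨ d = a ∨ d = b ∨ d = a + b := by decide

theorem exists_rk_add : ∀ (k : ZMod 3), k ≠ 0 → ∀ a : W, ∃ b : W, rk k b + b = a := by decide

theorem herm_first : ∀ p : LargeFischerJ.Calc.Code, p.2.1 ≠ 0 → ∀ s : W, s ≠ 0 →
    (LargeFischerJ.Calc.herm p (0, s, 0)).1 ≠ 0 := by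
  decide +kernel

theorem herm_distinct : ∀ p : LargeFischerJ.Calc.Code, p.2.1 ≠ 0 →
    (LargeFischerJ.Calc.herm p (0, (1, 0), 0)).1 ≠ (LargeFischerJ.Calc.herm p (0, (0, 1), 0)).1 := by
  decide +kernel

variable {G : Type*} [Group G] [Finite G] {z : G} {Q : Subgroup (Cz z)} [Q.Normal] {D : Data z Q} {C : Coords D}

namespace Pair

variable (P : Pair C)

/-- The derived group, as a subgroup of `G`. -/
abbrev EC' : Subgroup G := ⁅P.EC, P.EC⁆

theorem vec_inv (D : Data z Q) (q : Q) : vec q⁻¹ = vec q := by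
  have h0 : vec (q⁻¹ * q) = 0 := by rw [inv_mul_cancel, vec_one]
  rw [vec_mul] at h0
  rw [← add_right_cancel_iff (a := vec q), h0, QV_two D.hS]

/-- The classes of the elements of `Q` in the derived group. -/
def U : AddSubgroup (QV Q) where
  carrier := {v | ∃ q : Q, toG q ∈ P.EC' ∧ vec q = v}
  zero_mem' := ⟨1, one_mem _, vec_one⟩
  add_mem' := fun {a b} ⟨q, hq, e⟩ ⟨r, hr, e'⟩ => ⟨q * r, mul_mem hq hr, by rw [vec_mul, e, e']⟩
  neg_mem' := fun {a} ⟨q, hq, e⟩ => ⟨q⁻¹, inv_mem hq, by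
    rw [vec_inv D, e]
    exact (neg_eq_of_add_eq_zero_left (QV_two D.hS a)).symm⟩

theorem exists_mem_HE {w : QV Q} (hw : Perp C.F w) :
    ∃ q : Q, vec q = w ∧ (q : Cz z) ∈ P.HE := by
  obtain ⟨q, rfl⟩ := vec_surjective w
  refine ⟨q, rfl, P.mem_HE_Q.2 ⟨?_, ?_⟩⟩ <;> refine (bf_eq_zero_iff D.hS _ _).1 ?_
  · rw [P.ht]; exact polar_perp C.F hw _
  · rw [P.hu]; exact polar_perp C.F hw _

theorem step_mem (l : stabBase C.F) {w : QV Q} (hw : Perp C.F w) : D.setting.φ (l : D.L) w + w ∈ P.U := by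
  obtain ⟨h, rfl⟩ := P.ψ_surjective l
  obtain ⟨q, rfl, hq⟩ := P.exists_mem_HE hw
  refine ⟨conjIn (h : Cz z) q * q⁻¹, ?_, ?_⟩
  · have e : toG (conjIn (h : Cz z) q * q⁻¹) = ⁅((h : Cz z) : G), toG q⁆ := by
      rw [commutatorElement_def, ← conjIn_toG]; rfl
    rw [e]
    exact Subgroup.commutator_mem_commutator (Subgroup.mem_subgroupOf.1 h.2) (Subgroup.mem_subgroupOf.1 hq)
  · rw [vec_mul, vec_inv D]
    congr 1
    rw [← actC_vec, ← act_mk D.hS]
    rfl

theorem z_mem_EC' : z ∈ P.EC' := by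
  obtain ⟨w₁, w₂, h1, h2, hb⟩ : ∃ w₁ w₂ : QV Q, Perp C.F w₁ ∧ Perp C.F w₂ ∧ bf D.hS w₁ w₂ ≠ 0 := by
    refine ⟨C.F.coord.symm ![0, 0, (1, 0), 0, 0, 0], C.F.coord.symm ![0, 0, (0, 1), 0, 0, 0], ?_, ?_, ?_⟩
    · show C.F.coord _ 0 = C.F.coord _ 1
      rw [AddEquiv.apply_symm_apply]; rfl
    · show C.F.coord _ 0 = C.F.coord _ 1
      rw [AddEquiv.apply_symm_apply]; rfl
    · show D.setting.b _ _ ≠ 0
      rw [polar_eq C.F, AddEquiv.apply_symm_apply, AddEquiv.apply_symm_apply, Fin.sum_univ_six]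
      decide
  obtain ⟨q₁, rfl, m1⟩ := P.exists_mem_HE h1
  obtain ⟨q₂, rfl, m2⟩ := P.exists_mem_HE h2
  have e : ⁅q₁, q₂⁆ = zin D.hS := (comm_center D.hS q₁ q₂).resolve_left fun e =>
    hb ((bf_eq_zero_iff D.hS _ _).2 (commutatorElement_eq_one_iff_commute.1 e))
  have h := Subgroup.commutator_mem_commutator (Subgroup.mem_subgroupOf.1 m1) (Subgroup.mem_subgroupOf.1 m2)
    (H₁ := P.EC) (H₂ := P.EC)
  have e' : ⁅toG q₁, toG q₂⁆ = z := by
    have h' := congrArg (fun q : Q => toG q) e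
    rw [commutatorElement_def] at h' ⊢
    exact h'
  rwa [e'] at h

theorem perp_of_coord {v : Fin 6 → W} (h : v 0 = v 1) : Perp C.F (C.F.coord.symm v) := by
  show C.F.coord _ 0 = C.F.coord _ 1
  rw [AddEquiv.apply_symm_apply]; exact h

theorem diag_step (k : Fin 6 → ZMod 3) (hk : ∑ i, k i = 0) (h0 : k 0 = 0) (h1 : k 1 = 0) (v : Fin 6 → W)
    (hv : v 0 = v 1) : C.F.coord.symm ((fun i => rk (k i) (v i)) + v) ∈ P.U := by
  obtain ⟨l, hl⟩ := C.F.diag k hk
  have hls : l ∈ stabBase C.F := by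
    rw [mem_stabBase]
    refine C.F.coord.injective (funext fun i => ?_)
    rw [hl, coord_v0]
    fin_cases i <;> simp [vBase, h0, h1, rk]
  have h := P.step_mem ⟨l, hls⟩ (perp_of_coord hv)
  have e : D.setting.φ l (C.F.coord.symm v) + C.F.coord.symm v =
      C.F.coord.symm ((fun i => rk (k i) (v i)) + v) := by
    refine C.F.coord.injective (funext fun i => ?_)
    rw [map_add, Pi.add_apply, hl, AddEquiv.apply_symm_apply, AddEquiv.apply_symm_apply]
    rfl
  rwa [e] at h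

theorem two_three (a b : W) : C.F.coord.symm ![0, 0, a, b, 0, 0] ∈ P.U := by
  obtain ⟨x, rfl⟩ := exists_rk_add 1 (by decide) a
  obtain ⟨y, rfl⟩ := exists_rk_add 2 (by decide) b
  convert P.diag_step ![0, 0, 1, 2, 0, 0] (by decide) rfl rfl ![0, 0, x, y, 0, 0] rfl using 2
  funext i
  fin_cases i <;> simp [rk] <;> rfl

theorem four_five (a b : W) : C.F.coord.symm ![0, 0, 0, 0, a, b] ∈ P.U := by
  obtain ⟨x, rfl⟩ := exists_rk_add 1 (by decide) a
  obtain ⟨y, rfl⟩ := exists_rk_add 2 (by decide) b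
  convert P.diag_step ![0, 0, 0, 0, 1, 2] (by decide) rfl rfl ![0, 0, 0, 0, x, y] rfl using 2
  funext i
  fin_cases i <;> simp [rk] <;> rfl

theorem D1_mem {T1 : Sylow 2 (Cz z)} {B : Subgroup (Cz z)} (hA : LargeFischerJ.Anchor C T1 B) (d : W) :
    D1 C.F d ∈ P.U := by
  obtain ⟨p, hp, hp0⟩ := exists_code C.c
  obtain ⟨k, hk⟩ := ((LargeFischerJ.card_K0_and_codes C hA.sixteen).2 p).2 hp
  have hkL := LargeFischerJ.K0_le C k.2
  have hvU : v0 C.F ∈ LargeFischerJ.planeS C := by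
    rw [LargeFischerJ.mem_planeS, coord_v0]; exact ⟨rfl, rfl, rfl⟩
  have hks : (⟨_, hkL⟩ : D.L) ∈ stabBase C.F := k.2 _ hvU
  have key : ∀ s : W, D1 C.F (LargeFischerJ.Calc.herm p (0, s, 0)).1 ∈ P.U := by
    intro s
    set r := LargeFischerJ.Calc.herm p (0, s, 0) with hr
    have h := P.step_mem ⟨_, hks⟩ (perp_of_coord (C := C) (v := ![0, 0, s, 0, 0, 0]) rfl)
    have e : D.setting.φ ⟨_, hkL⟩ (C.F.coord.symm ![0, 0, s, 0, 0, 0]) + C.F.coord.symm ![0, 0, s, 0, 0, 0] =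
        C.F.coord.symm (LargeFischerJ.Calc.pairs r) := by
      refine C.F.coord.injective (funext fun i => ?_)
      rw [map_add, Pi.add_apply, AddEquiv.apply_symm_apply, AddEquiv.apply_symm_apply]
      show C.F.coord (act (k : Cz z ⧸ Q) _) i + _ = _
      rw [LargeFischerJ.codeOf_spec, hk, Pi.add_apply, AddEquiv.apply_symm_apply, LargeFischerJ.Calc.nil,
        show LargeFischerJ.Calc.sums ![0, 0, s, 0, 0, 0] = ((0 : W), s, (0 : W)) by
          simp [LargeFischerJ.Calc.sums],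
        ← hr, add_comm (_ + _), ← add_assoc, (by decide : ∀ a : W, a + a = 0) _, zero_add]
    rw [e] at h
    have h' := add_mem h (add_mem (P.two_three r.2.1 r.2.1) (P.four_five r.2.2 r.2.2))
    rw [← map_add, ← map_add] at h'
    convert h' using 1
    refine C.F.coord.injective (funext fun i => ?_)
    rw [coord_D1, AddEquiv.apply_symm_apply]
    fin_cases i <;> simp [dW, LargeFischerJ.Calc.pairs, (by decide : ∀ a : W, a + a = 0)]
  rcases span_two _ _ d (herm_first p hp0 _ (by decide : ((1, 0) : W) ≠ 0))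
      (herm_first p hp0 _ (by decide : ((0, 1) : W) ≠ 0)) (herm_distinct p hp0) with rfl | rfl | rfl | rfl
  · rw [D1_zero]; exact zero_mem _
  · exact key _
  · exact key _
  · rw [D1_add]; exact add_mem (key _) (key _)

theorem E_le_EC' {T1 : Sylow 2 (Cz z)} {B : Subgroup (Cz z)} (hA : LargeFischerJ.Anchor C T1 B) : P.E ≤ P.EC' := by
  rintro _ ⟨q, hq, rfl⟩
  obtain ⟨a, ha, -⟩ := P.vec_Eq hq
  obtain ⟨r, hr, e⟩ := P.D1_mem hA a
  rw [← ha] at e
  rcases (mem_center_cases D.hS).1 ((vec_eq_iff D.hS).1 e) with h | h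
  · rw [← inv_mul_eq_one.1 h]
    exact hr
  · rw [inv_mul_eq_iff_eq_mul.1 h, map_mul]
    exact mul_mem hr P.z_mem_EC'

end Pair

end CfsgLib.LargeFischerE
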