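import Cfsg.Agent.LargeFischerE.Centralizer
import Cfsg.Agent.LargeFischerE.Move
import Cfsg.Agent.LargeFischerE.Perfect
import Cfsg.Agent.Inv54.Core
import Cfsg.Prelude.Def_CaseTheorems

/-!
The centralizer of the four-group is quasisimple with central quotient `PSU(6,4)`, given the recognition of
`U₆(2)` from the centralizer of an involution.
-/

set_option autoImplicit false
set_option linter.unusedSectionVars false
set_option linter.style.haveILetI false
set_option maxHeartbeats 1000000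

universe u

namespace CfsgLib.LargeFischerE

open Cfsg CfsgLib.LargeFischer
open scoped commutatorElement

/-- The recognition of `U₆(2)` from the centralizer of an involution. -/
def RecU62 : Prop :=
  ∀ {H : Type u} [Group H] [Finite H] (w : H), orderOf w = 2 →
    Cfsg.IsExtraspecial 2 ↥(Cfsg.pCore 2 ↥(Subgroup.centralizer ({w} : Set H))) →
    Nat.card ↥(Cfsg.pCore 2 ↥(Subgroup.centralizer ({w} : Set H))) = 2 ^ 9 →
    Subgroup.centralizer ((Cfsg.pCore 2 ↥(Subgroup.centralizer ({w} : Set H))) :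
      Set ↥(Subgroup.centralizer ({w} : Set H))) ≤ Cfsg.pCore 2 ↥(Subgroup.centralizer ({w} : Set H)) →
    ∀ [(Cfsg.pCore 2 ↥(Subgroup.centralizer ({w} : Set H))).Normal],
      (↥(Subgroup.centralizer ({w} : Set H)) ⧸ Cfsg.pCore 2 ↥(Subgroup.centralizer ({w} : Set H)) ≃*
        Cfsg.PSp 2 (ZMod 3)) →
      Nonempty (H ≃* Cfsg.PSU 6 CfsgLib.Linear.GF4 2) ∨
        Subgroup.centralizer ({w} : Set H) ⊔ Cfsg.oddCore H = ⊤

variable {G : Type u} [Group G] [Finite G] {z : G} {Q : Subgroup (Cz z)} [Q.Normal] {D : Data z Q} {C : Coords D}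

theorem Pair.quot_iso (rec : RecU62.{u}) {T1 : Sylow 2 (Cz z)} {B : Subgroup (Cz z)}
    (hA : LargeFischerJ.Anchor C T1 B) (P : Pair C) :
    Nonempty (P.Gb ≃* Cfsg.PSU 6 CfsgLib.Linear.GF4 2) := by
  haveI hn : (Cfsg.pCore 2 P.H1).Normal := Subgroup.sSup_normal _ fun _ h => h.1
  obtain ⟨e⟩ := P.exists_quot_iso
  refine (rec P.zb P.orderOf_zb (P.pCore_eq ▸ P.J_extraspecial)
    (by rw [P.pCore_eq, P.card_J]; norm_num) P.centralizer_pCore_le e).resolve_right ?_
  obtain ⟨c, hc, hne, hcom⟩ := exists_move hA P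
  haveI : (Cfsg.oddCore P.Gb).Normal := Subgroup.sSup_normal _ fun _ h => h.1
  refine sup_ne_top CfsgLib.Inv54.odd_card_oddCore P.zb_sq (c := (QuotientGroup.mk ⟨c, hc⟩ : P.Gb)) ?_ ?_
  · intro h
    have h1 : (QuotientGroup.mk (⟨c, hc⟩ * ⟨z, P.z_mem_EC⟩ * ⟨c, hc⟩⁻¹ * ⟨z, P.z_mem_EC⟩⁻¹) : P.Gb) = 1 := by
      simp only [QuotientGroup.mk_mul, QuotientGroup.mk_inv]
      rw [mul_inv_eq_one]
      exact h
    rw [P.mk_eq_one] at h1
    simp only [Subgroup.coe_mul, Subgroup.coe_inv] at h1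
    have hne' : c * z * c⁻¹ * z⁻¹ ≠ 1 := fun e => hne (mul_inv_eq_one.1 e)
    refine P.not_isConj_z_mul h1 hne' (isConj_iff.2 ⟨c, ?_⟩)
    rw [← mul_assoc, ← hcom.eq, mul_inv_cancel_right]
  · exact congrArg QuotientGroup.mk (Subtype.ext hcom.eq :
      (⟨c, hc⟩ * ⟨z, P.z_mem_EC⟩ * ⟨c, hc⟩⁻¹ * ⟨z, P.z_mem_EC⟩ : P.EC) =
        ⟨z, P.z_mem_EC⟩ * (⟨c, hc⟩ * ⟨z, P.z_mem_EC⟩ * ⟨c, hc⟩⁻¹))

/-- The centralizer of the four-group is perfect, its centre is the four-group, and the quotient is known. -/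
theorem Pair.ec_facts (rec : RecU62.{u}) {T1 : Sylow 2 (Cz z)} {B : Subgroup (Cz z)}
    (hA : LargeFischerJ.Anchor C T1 B) (P : Pair C) :
    Cfsg.IsQuasisimple P.EC ∧ Subgroup.center P.EC = P.E.subgroupOf P.EC ∧
      Nonempty (P.Gb ≃* Cfsg.PSU 6 CfsgLib.Linear.GF4 2) := by
  obtain ⟨e⟩ := P.quot_iso rec hA
  haveI hsimp : IsSimpleGroup (Cfsg.PSU 6 CfsgLib.Linear.GF4 2) :=
    CfsgLib.Forms4.isSimpleGroup_PSU (by rw [CfsgLib.Linear.card_gf4]; norm_num) 6 (by norm_num) (by simp)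
  haveI : IsSimpleGroup P.Gb := e.isSimpleGroup
  have hnc : ¬ IsMulCommutative P.Gb := fun h => P.zb_ne (by
    have h2 : Nat.card P.J = 512 := P.card_J
    have h3 := P.J_extraspecial
    haveI : Fact (Nat.Prime 2) := ⟨Nat.prime_two⟩
    exact absurd (Subgroup.eq_top_iff' _ |>.2 fun a : P.J => Subgroup.mem_center_iff.2 fun b =>
      Subtype.ext (Subtype.ext (h.is_comm.comm _ _))) (CfsgLib.ExtraspecialBasic.center_ne_top h3))
  have hperf : commutator P.EC = ⊤ := by
    set π := QuotientGroup.mk' (P.E.subgroupOf P.EC) with hπ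
    have h1 : (commutator P.EC).map π = commutator P.Gb := by
      rw [commutator_def, commutator_def, Subgroup.map_commutator,
        Subgroup.map_top_of_surjective _ (QuotientGroup.mk'_surjective _)]
    have h2 : commutator P.Gb = ⊤ := (inferInstance : (commutator P.Gb).Normal).eq_bot_or_eq_top.resolve_left
      fun h => hnc ⟨⟨fun a b => commutatorElement_eq_one_iff_mul_comm.1 ((Subgroup.mem_bot).1
        (h ▸ Subgroup.commutator_mem_commutator (Subgroup.mem_top a) (Subgroup.mem_top b)))⟩⟩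
    have h3 : P.E.subgroupOf P.EC ≤ commutator P.EC := by
      intro a ha
      rw [Subgroup.mem_subgroupOf] at ha
      have hmap : (commutator P.EC).map P.EC.subtype = P.EC' := by
        rw [commutator_def, Subgroup.map_commutator, ← MonoidHom.range_eq_map, Subgroup.range_subtype]
      obtain ⟨b, hb, e⟩ := hmap.symm ▸ P.E_le_EC' hA ha
      rwa [← Subtype.ext e]
    rw [eq_top_iff]
    intro a _
    have : π a ∈ (commutator P.EC).map π := by rw [h1, h2]; trivial
    obtain ⟨b, hb, e⟩ := this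
    have h4 := h3 (QuotientGroup.eq.1 e)
    simpa using mul_mem hb h4
  have hcen : Subgroup.center P.EC = P.E.subgroupOf P.EC := by
    refine le_antisymm (fun a ha => ?_) fun a ha => Subgroup.mem_center_iff.2 fun g =>
      Subtype.ext (P.E_central ha g.2).symm
    have h1 : (QuotientGroup.mk a : P.Gb) ∈ Subgroup.center P.Gb := Subgroup.mem_center_iff.2 fun y => by
      obtain ⟨g, rfl⟩ := QuotientGroup.mk_surjective y
      exact congrArg QuotientGroup.mk (Subgroup.mem_center_iff.1 ha g)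
    rcases (inferInstance : (Subgroup.center P.Gb).Normal).eq_bot_or_eq_top with h | h
    · rw [h, Subgroup.mem_bot, P.mk_eq_one] at h1
      exact h1
    · exact absurd ⟨⟨fun x y => Subgroup.mem_center_iff.1 (h ▸ Subgroup.mem_top y : y ∈ Subgroup.center P.Gb) x⟩⟩ hnc
  refine ⟨⟨⟨hperf⟩, ?_⟩, hcen, ⟨e⟩⟩
  haveI : Subgroup.Normal (Subgroup.center P.EC) := inferInstance
  exact (QuotientGroup.quotientMulEquivOfEq hcen).isSimpleGroup

/-- The four-group of S5449. -/
theorem exists_four (rec : RecU62.{u}) (hF : Cfsg.IsOfLargeFischerTypeAt z Q) :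
    ∃ E : Subgroup G, E ≤ (Q.map (Cz z).subtype) ∧ Cfsg.IsElementaryAbelian 2 E ∧ Nat.card E = 4 ∧ z ∉ E ∧
      (∃ t ∈ E, orderOf t = 2 ∧ ¬ IsConj z t) ∧ Cfsg.IsQuasisimple ↥(Subgroup.centralizer (E : Set G)) ∧
      ∃ (_ : (E.subgroupOf (Subgroup.centralizer (E : Set G))).Normal) (K : Type) (_ : Field K) (_ : Fintype K),
        Fintype.card K = 4 ∧ Nonempty (↥(Subgroup.centralizer (E : Set G)) ⧸
          E.subgroupOf (Subgroup.centralizer (E : Set G)) ≃* Cfsg.PSU 6 K 2) := by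
  obtain ⟨D⟩ := exists_data hF
  obtain ⟨C, T1, B, hA⟩ := LargeFischerJ.exists_anchor D
  obtain ⟨P⟩ := exists_pair C
  obtain ⟨hqs, -, ⟨e⟩⟩ := P.ec_facts rec hA
  refine ⟨P.E, P.E_le, P.E_elementary, P.card_E, P.z_not_mem, ⟨toG P.t, P.toG_mem_E.2 (Or.inr (Or.inl rfl)), ?_,
    not_isConj_of_inA C (P.ht ▸ D1_inA C (by decide))⟩, hqs,
    P.E_normal, CfsgLib.Linear.GF4, inferInstance, inferInstance, CfsgLib.Linear.card_gf4, ⟨e⟩⟩
  refine orderOf_eq_prime ?_ fun h => ?_
  · rw [pow_two]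
    exact (congrArg (qIncl Q) P.t_sq).trans (map_one _)
  · exact D1_ne_zero C (by decide : ((1, 0) : W) ≠ 0) (by
      rw [← P.ht, show P.t = 1 from qIncl_injective Q (h.trans (map_one _).symm), vec_one])

end CfsgLib.LargeFischerE
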