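import Cfsg.Agent.LargeFischerJ.Main
import Cfsg.Agent.LargeFischer.EightGroup
import Cfsg.Agent.LargeFischer.StabAOrth
import Cfsg.Agent.UFourThree.Five

/-!
A scalar pair of the class of size 378 in `Q`, the four-group it spans, and the centralizer of that four-group
in the centralizer of `z`.
-/

set_option autoImplicit false
set_option linter.unusedSectionVars false
set_option linter.style.haveILetI false
set_option maxHeartbeats 1000000

namespace CfsgLib.LargeFischerE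

open Cfsg CfsgLib.LargeFischer

variable {G : Type*} [Group G] [Finite G] {z : G} {Q : Subgroup (Cz z)} [Q.Normal] {D : Data z Q}

/-- In `3.U₄(3)` no involution commutes with an element of order five. -/
theorem five (D : Data z Q) : ∀ u l : D.L, u ^ 2 = 1 → u ≠ 1 → orderOf l = 5 → ¬ Commute u l := by
  intro u l hu hu1 hl hcom
  letI := D.fieldK
  letI := D.fintypeK
  have hker : ∀ y, D.π y = 1 → y ^ 3 = 1 := fun y hy => by
    obtain ⟨n, rfl⟩ := (D.π_ker y).1 hy
    rw [← zpow_natCast, ← zpow_mul, mul_comm, zpow_mul, zpow_natCast, D.x3, one_zpow]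
  haveI : Fact (Nat.Prime 5) := ⟨by norm_num⟩
  have hl5 : orderOf (D.π l) = 5 := by
    refine orderOf_eq_prime ?_ fun h => ?_
    · rw [← map_pow, ← hl, pow_orderOf_eq_one, map_one]
    · have := orderOf_dvd_of_pow_eq_one (hker l h)
      rw [hl] at this
      norm_num at this
  have hcz := CfsgLib.UFourThree.centralizer_five D.K D.cardK (Subgroup.zpowers (D.π l))
    (by rw [Nat.card_zpowers, hl5])
  have hmem : D.π u ∈ Subgroup.zpowers (D.π l) := by
    rw [← hcz, Subgroup.mem_centralizer_iff]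
    rintro _ ⟨n, rfl⟩
    exact ((hcom.map D.π).zpow_right n).eq.symm
  have h5' : D.π u ^ 5 = 1 := by
    obtain ⟨n, hn⟩ := hmem
    have hn' : D.π l ^ n = D.π u := hn
    rw [← hn', ← zpow_natCast, ← zpow_mul, mul_comm, zpow_mul, zpow_natCast, ← hl5,
      pow_orderOf_eq_one, one_zpow]
  have h2' : D.π u ^ 2 = 1 := by rw [← map_pow, hu, map_one]
  have h1 : D.π u = 1 := by
    rw [pow_succ, show D.π u ^ 4 = (D.π u ^ 2) ^ 2 from pow_mul _ 2 2, h2', one_pow, one_mul] at h5'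
    exact h5'
  have h3 := hker u h1
  exact hu1 (by rw [pow_succ, hu, one_mul] at h3; exact h3)

/-- An involution of `Q` in the class of size 378 is not conjugate to `z`. -/
theorem not_isConj_of_inA (C : Coords D) {q : Q} (h : C.F.InA C.c (vec q)) : ¬ IsConj z (toG q) := fun hc =>
  C.F.inA_not_inB C.c h ((LargeFischerJ.isConj_iff_inB
    (fun hz => C.ne_zero_of (Or.inl h) ((vec_eq_zero D.hS).2 hz)) C).1 hc)

theorem D1_add (C : Coords D) (a b : W) : D1 C.F (a + b) = D1 C.F a + D1 C.F b := by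
  apply C.F.coord.injective
  rw [map_add, coord_D1, coord_D1, coord_D1, dW_add]

theorem D1_one (C : Coords D) : D1 C.F (1, 0) = v0 C.F := by
  apply C.F.coord.injective
  rw [coord_D1, coord_v0, vBase_facts.2.2.2]

theorem D1_zero (C : Coords D) : D1 C.F 0 = 0 := by
  apply C.F.coord.injective
  rw [coord_D1, map_zero]
  funext i; fin_cases i <;> rfl

theorem D1_om (C : Coords D) : D1 C.F (0, 1) = act (D.x : Cz z ⧸ Q) (v0 C.F) := by
  apply C.F.coord.injective
  funext i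
  rw [coord_D1]
  show _ = C.F.coord (D.setting.φ D.setting.x (v0 C.F)) i
  rw [C.F.coord_x, coord_v0]
  fin_cases i <;> decide

theorem D1_inA (C : Coords D) {a : W} (ha : a ≠ 0) : C.F.InA C.c (D1 C.F a) := by
  refine Or.inl ?_
  rw [coord_D1]
  exact (by decide : ∀ a : W, a ≠ 0 → (suppW (dW a)).card = 2) a ha

theorem D1_ne_zero (C : Coords D) {a : W} (ha : a ≠ 0) : D1 C.F a ≠ 0 :=
  C.ne_zero_of (Or.inl (D1_inA C ha))

theorem D1_injective (C : Coords D) : Function.Injective (D1 C.F) := fun a b h => by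
  by_contra hne
  have h2 : a + b ≠ 0 := fun e => hne ((by decide : ∀ a b : W, a + b = 0 → a = b) a b e)
  exact D1_ne_zero C h2 (by rw [D1_add, h, QV_two D.hS])

theorem W_cases : ∀ a : W, a = 0 ∨ a = (1, 0) ∨ a = (0, 1) ∨ a = (1, 0) + (0, 1) := by decide

theorem bf_self (v : QV Q) : bf D.hS v v = 0 := by
  obtain ⟨a, rfl⟩ := vec_surjective v
  exact (bf_eq_zero_iff D.hS a a).2 (Commute.refl a)

/-- Two lifts of the first scalar pair. -/
structure Pair (C : Coords D) where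
  t : Q
  u : Q
  ht : vec t = D1 C.F (1, 0)
  hu : vec u = D1 C.F (0, 1)

theorem exists_pair (C : Coords D) : Nonempty (Pair C) := by
  obtain ⟨t, ht⟩ := vec_surjective (D1 C.F (1, 0))
  obtain ⟨u, hu⟩ := vec_surjective (D1 C.F (0, 1))
  exact ⟨⟨t, u, ht, hu⟩⟩

namespace Pair

variable {C : Coords D} (P : Pair C)

theorem vec_mul_tu : vec (P.t * P.u) = D1 C.F ((1, 0) + (0, 1)) := by
  rw [vec_mul, P.ht, P.hu, ← D1_add]

theorem sq_of_vec {q : Q} {a : W} (ha : a ≠ 0) (h : vec q = D1 C.F a) : q * q = 1 :=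
  (qf_eq_zero_iff D.hS q).1 (by rw [h]; exact C.q_zero_of (Or.inl (D1_inA C ha)))

theorem t_sq : P.t * P.t = 1 := sq_of_vec (by decide) P.ht

theorem u_sq : P.u * P.u = 1 := sq_of_vec (by decide) P.hu

theorem tu_comm : Commute P.t P.u := by
  refine (bf_eq_zero_iff D.hS _ _).1 ?_
  rw [P.ht, P.hu]
  show D.setting.b _ _ = 0
  rw [polar_eq C.F, coord_D1, coord_D1, Fin.sum_univ_six]
  decide

/-- The four-group in `Q`. -/
def Eq : Subgroup Q where
  carrier := {q | q = 1 ∨ q = P.t ∨ q = P.u ∨ q = P.t * P.u}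
  one_mem' := Or.inl rfl
  mul_mem' := by
    have h1 := P.t_sq
    have h2 := P.u_sq
    have hc : P.u * P.t = P.t * P.u := P.tu_comm.eq.symm
    rintro a b (rfl | rfl | rfl | rfl) (rfl | rfl | rfl | rfl) <;>
      simp only [Set.mem_setOf_eq, one_mul, mul_one, mul_assoc, h1, h2, hc,
        ← mul_assoc P.t P.t, ← mul_assoc P.u P.u, true_or, or_true]
    all_goals
      simp only [← mul_assoc, hc, h1, h2, one_mul, mul_one, true_or, or_true]
    all_goals
      simp only [mul_assoc, h1, h2, one_mul, mul_one, true_or, or_true]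
  inv_mem' := by
    rintro a (rfl | rfl | rfl | rfl)
    · exact Or.inl inv_one
    · exact Or.inr (Or.inl (inv_eq_of_mul_eq_one_right P.t_sq))
    · exact Or.inr (Or.inr (Or.inl (inv_eq_of_mul_eq_one_right P.u_sq)))
    · refine Or.inr (Or.inr (Or.inr ?_))
      rw [mul_inv_rev, inv_eq_of_mul_eq_one_right P.t_sq, inv_eq_of_mul_eq_one_right P.u_sq, P.tu_comm.eq]

theorem mem_Eq {q : Q} : q ∈ P.Eq ↔ q = 1 ∨ q = P.t ∨ q = P.u ∨ q = P.t * P.u := Iff.rfl

/-- An element of the four-group has a class on the line, trivial only for the identity. -/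
theorem vec_Eq {q : Q} (h : q ∈ P.Eq) : ∃ a, vec q = D1 C.F a ∧ (a = 0 ↔ q = 1) := by
  have key : ∀ {r : Q} {a : W}, a ≠ 0 → vec r = D1 C.F a → (a = 0 ↔ r = 1) := fun {r a} ha hr =>
    ⟨fun e => absurd e ha, fun e => absurd (by rw [← hr, e, vec_one]) (D1_ne_zero C ha).symm⟩
  rcases h with rfl | rfl | rfl | rfl
  · exact ⟨0, by rw [vec_one, D1_zero], by simp⟩
  · exact ⟨_, P.ht, key (by decide) P.ht⟩
  · exact ⟨_, P.hu, key (by decide) P.hu⟩
  · exact ⟨_, P.vec_mul_tu, key (by decide) P.vec_mul_tu⟩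

theorem exists_Eq (a : W) : ∃ q ∈ P.Eq, vec q = D1 C.F a := by
  rcases W_cases a with rfl | rfl | rfl | rfl
  · exact ⟨1, one_mem _, by rw [vec_one, D1_zero]⟩
  · exact ⟨_, Or.inr (Or.inl rfl), P.ht⟩
  · exact ⟨_, Or.inr (Or.inr (Or.inl rfl)), P.hu⟩
  · exact ⟨_, Or.inr (Or.inr (Or.inr rfl)), P.vec_mul_tu⟩

theorem center_disjoint {q : Q} (h : q ∈ P.Eq) (hc : q ∈ Subgroup.center Q) : q = 1 := by
  obtain ⟨a, ha, h0⟩ := P.vec_Eq h
  refine h0.1 (by_contra fun hne => D1_ne_zero C hne ?_)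
  rw [← ha]
  exact (vec_eq_zero D.hS).2 hc

theorem inA_of_mem {q : Q} (h : q ∈ P.Eq) (hne : q ≠ 1) : C.F.InA C.c (vec q) := by
  obtain ⟨a, ha, h0⟩ := P.vec_Eq h
  rw [ha]
  exact D1_inA C fun e => hne (h0.1 e)

theorem card_Eq : Nat.card P.Eq = 4 := by
  let f : P.Eq → W := fun q => (P.vec_Eq q.2).choose
  have hf : ∀ q : P.Eq, vec (q : Q) = D1 C.F (f q) := fun q => (P.vec_Eq q.2).choose_spec.1
  have hbij : Function.Bijective f := by
    refine ⟨fun a b h => Subtype.ext ?_, fun a => ?_⟩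
    · have hc : (a : Q)⁻¹ * b ∈ Subgroup.center Q := (vec_eq_iff D.hS).1 (by rw [hf a, hf b, h])
      exact inv_mul_eq_one.1 (P.center_disjoint (P.Eq.mul_mem (P.Eq.inv_mem a.2) b.2) hc)
    · obtain ⟨q, hq, e⟩ := P.exists_Eq a
      exact ⟨⟨q, hq⟩, D1_injective C ((hf ⟨q, hq⟩).symm.trans e)⟩
  rw [Nat.card_eq_of_bijective f hbij]
  simp

/-- The four-group in `G`. -/
def E : Subgroup G := P.Eq.map (qIncl Q)

theorem toG_mem_E {q : Q} : toG q ∈ P.E ↔ q ∈ P.Eq := by
  constructor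
  · rintro ⟨r, hr, e⟩
    rwa [← qIncl_injective Q (show qIncl Q r = qIncl Q q from e)]
  · exact fun h => ⟨q, h, rfl⟩

theorem card_E : Nat.card P.E = 4 := by
  rw [E, ← Nat.card_congr (Subgroup.equivMapOfInjective P.Eq _ (qIncl_injective Q)).toEquiv, P.card_Eq]

theorem E_le : P.E ≤ inG Q := by
  rintro _ ⟨q, -, rfl⟩
  exact mem_inG.2 ⟨q, rfl⟩

theorem E_elementary : Cfsg.IsElementaryAbelian 2 P.E := by
  have hsq : ∀ a ∈ P.E, a * a = 1 := by
    rintro _ ⟨q, hq, rfl⟩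
    rw [← map_mul]
    have : q * q = 1 := by
      obtain ⟨a, ha, h0⟩ := P.vec_Eq hq
      by_cases e : a = 0
      · rw [h0.1 e, mul_one]
      · exact sq_of_vec e ha
    rw [this, map_one]
  refine ⟨⟨⟨fun a b => Subtype.ext ?_⟩⟩, fun a ha => by rw [pow_two]; exact hsq a ha⟩
  · show (a : G) * b = b * a
    have h := hsq _ (P.E.mul_mem a.2 b.2)
    have ha := hsq _ a.2
    have hb := hsq _ b.2
    calc (a : G) * b = (a : G) * ((a : G) * b * ((a : G) * b)) * b := by rw [h, mul_one]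
      _ = (a : G) * a * (b * a) * (b * b) := by group
      _ = b * a := by rw [ha, hb, one_mul, mul_one]

theorem z_not_mem : z ∉ P.E := fun h => by
  have h' := P.toG_mem_E.1 (show toG (zin D.hS) ∈ P.E from h)
  exact zin_ne_one D.hS (P.center_disjoint h' ((mem_center_cases D.hS).2 (Or.inr rfl)))

/-- No translate of `z` by a non-trivial element of the four-group is a conjugate of `z`. -/
theorem not_isConj {q : Q} (h : q ∈ P.Eq) (hne : q ≠ 1) : ¬ IsConj z (toG q) :=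
  not_isConj_of_inA C (P.inA_of_mem h hne)

theorem not_isConj_z_mul {a : G} (h : a ∈ P.E) (hne : a ≠ 1) : ¬ IsConj z (z * a) := by
  obtain ⟨q, hq, rfl⟩ := h
  have e : z * qIncl Q q = toG (zin D.hS * q) := rfl
  rw [e]
  refine not_isConj_of_inA C ?_
  rw [vec_mul, (vec_eq_zero D.hS).2 ((mem_center_cases D.hS).2 (Or.inr rfl)), zero_add]
  exact P.inA_of_mem hq fun h1 => hne (by rw [h1, map_one])

/-- The centralizer of the four-group. -/
abbrev EC : Subgroup G := Subgroup.centralizer (P.E : Set G)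

theorem mem_EC_iff {g : G} : g ∈ P.EC ↔ g * toG P.t = toG P.t * g ∧ g * toG P.u = toG P.u * g := by
  rw [Subgroup.mem_centralizer_iff]
  constructor
  · intro h
    exact ⟨(h _ (P.toG_mem_E.2 (Or.inr (Or.inl rfl)))).symm,
      (h _ (P.toG_mem_E.2 (Or.inr (Or.inr (Or.inl rfl))))).symm⟩
  · rintro ⟨h1, h2⟩ a ⟨q, hq, rfl⟩
    rcases (P.mem_Eq).1 hq with rfl | rfl | rfl | rfl
    · simp
    · exact h1.symm
    · exact h2.symm
    · rw [map_mul]
      show toG P.t * toG P.u * g = g * (toG P.t * toG P.u)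
      rw [mul_assoc, ← h2, ← mul_assoc, ← h1, mul_assoc]

theorem z_mem_EC : z ∈ P.EC := P.mem_EC_iff.2
  ⟨(Subgroup.mem_centralizer_singleton_iff.1 (P.t : Cz z).2).symm,
    (Subgroup.mem_centralizer_singleton_iff.1 (P.u : Cz z).2).symm⟩

theorem E_le_EC : P.E ≤ P.EC := fun a ha => Subgroup.mem_centralizer_iff.2 fun b hb =>
  congrArg Subtype.val (P.E_elementary.1.1.1 (⟨b, hb⟩ : P.E) ⟨a, ha⟩)

/-- The centralizer of the four-group in the centralizer of `z`. -/
def HE : Subgroup (Cz z) := P.EC.subgroupOf (Cz z)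

theorem mem_HE {h : Cz z} : h ∈ P.HE ↔ h * (P.t : Cz z) = P.t * h ∧ h * (P.u : Cz z) = P.u * h := by
  rw [HE, Subgroup.mem_subgroupOf, P.mem_EC_iff]
  simp only [Subtype.ext_iff, Subgroup.coe_mul]

theorem mem_HE_Q {q : Q} : (q : Cz z) ∈ P.HE ↔ Commute q P.t ∧ Commute q P.u := by
  rw [P.mem_HE]
  simp only [Commute, SemiconjBy, Subtype.ext_iff, Subgroup.coe_mul]

theorem conjIn_of_mem {h : Cz z} (hh : h ∈ P.HE) {q : Q} (hq : q ∈ P.Eq) : conjIn h q = q := by
  refine Subtype.ext ?_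
  rw [conjIn_coe, mul_inv_eq_iff_eq_mul]
  have e := Subgroup.mem_centralizer_iff.1 (Subgroup.mem_subgroupOf.1 hh) _ (P.toG_mem_E.2 hq)
  exact Subtype.ext e.symm

theorem act_fix {h : Cz z} (hh : h ∈ P.HE) (a : W) :
    act (QuotientGroup.mk h : Cz z ⧸ Q) (D1 C.F a) = D1 C.F a := by
  obtain ⟨q, hq, e⟩ := P.exists_Eq a
  rw [← e, act_mk D.hS, actC_vec, P.conjIn_of_mem hh hq]

theorem mk_mem_L {h : Cz z} (hh : h ∈ P.HE) : (QuotientGroup.mk h : Cz z ⧸ Q) ∈ D.L := by
  by_contra hn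
  have e := mul_inv_eq_iff_eq_mul.1 (D.outer_inverts hn)
  have e3 : (D.x : Cz z ⧸ Q)⁻¹ = D.x * D.x := by
    refine inv_eq_of_mul_eq_one_right ?_
    have := congrArg Subtype.val D.x3
    rw [SubgroupClass.coe_pow, pow_succ, pow_two, mul_assoc] at this
    exact this
  have h1 := congrArg (fun k => act k (v0 C.F)) e
  simp only [e3, act_mul D.hS] at h1
  rw [show act (QuotientGroup.mk h : Cz z ⧸ Q) (act (D.x : Cz z ⧸ Q) (v0 C.F)) = act (D.x : Cz z ⧸ Q) (v0 C.F) by
      rw [← D1_om]; exact P.act_fix hh _,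
    show act (QuotientGroup.mk h : Cz z ⧸ Q) (v0 C.F) = v0 C.F by rw [← D1_one]; exact P.act_fix hh _] at h1
  have h2 := x_fix_zero D ((act (D.x : Cz z ⧸ Q)).injective h1).symm
  exact D1_ne_zero C (by decide : ((1, 0) : W) ≠ 0) (by rw [D1_one, h2])

/-- The action of the centralizer of the four-group on the stabiliser side. -/
noncomputable def ψ : P.HE →* stabBase C.F where
  toFun h := ⟨⟨QuotientGroup.mk (h : Cz z), P.mk_mem_L h.2⟩, by
    show act (QuotientGroup.mk (h : Cz z) : Cz z ⧸ Q) (v0 C.F) = v0 C.F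
    rw [← D1_one]; exact P.act_fix h.2 _⟩
  map_one' := Subtype.ext (Subtype.ext rfl)
  map_mul' _ _ := Subtype.ext (Subtype.ext rfl)

theorem ψ_eq_one {h : P.HE} : P.ψ h = 1 ↔ (h : Cz z) ∈ Q := by
  rw [← QuotientGroup.eq_one_iff]
  exact ⟨fun e => congrArg (fun l : stabBase C.F => ((l : D.L) : Cz z ⧸ Q)) e,
    fun e => Subtype.ext (Subtype.ext e)⟩

/-- Elements of `Q` with prescribed commutation with the two generators. -/
theorem exists_q : ∀ e₁ e₂ : ZMod 2, ∃ q : Q, bf D.hS (vec q) (vec P.t) = e₁ ∧ bf D.hS (vec q) (vec P.u) = e₂ := by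
  intro e₁ e₂
  obtain ⟨a, h1, h2⟩ := (by decide : ∀ e₁ e₂ : ZMod 2, ∃ a : W, bW a (1, 0) = e₁ ∧ bW a (0, 1) = e₂) e₁ e₂
  obtain ⟨q, hq⟩ := vec_surjective (C.F.coord.symm ![a, 0, 0, 0, 0, 0])
  have hc : C.F.coord (vec q) = ![a, 0, 0, 0, 0, 0] := by rw [hq, AddEquiv.apply_symm_apply]
  refine ⟨q, ?_, ?_⟩
  · show D.setting.b _ _ = _
    rw [polar_eq C.F, P.ht, coord_D1, hc, Fin.sum_univ_six]
    simp [dW, bW_zero, h1]
  · show D.setting.b _ _ = _
    rw [polar_eq C.F, P.hu, coord_D1, hc, Fin.sum_univ_six]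
    simp [dW, bW_zero, h2]

theorem conjIn_q (q a : Q) : conjIn (q : Cz z) a = a * zp D.hS (bf D.hS (vec q) (vec a)) := by
  have e : conjIn (q : Cz z) a = q * a * q⁻¹ := Subtype.ext (by rw [conjIn_coe]; rfl)
  have h := mul_swap' (hS := D.hS) q a
  have hzc := Subgroup.mem_center_iff.1 (zp_mem (hS := D.hS) (bf D.hS (vec q) (vec a))) q⁻¹
  rw [e, h, mul_assoc (a * q), ← hzc, ← mul_assoc, mul_inv_cancel_right]

theorem ψ_surjective : Function.Surjective P.ψ := by
  intro l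
  obtain ⟨k, hk⟩ := QuotientGroup.mk_surjective ((l : D.L) : Cz z ⧸ Q)
  have hfix : ∀ a : W, act ((l : D.L) : Cz z ⧸ Q) (D1 C.F a) = D1 C.F a := fun a => fix_D1 C.F l.2 a
  have hlift : ∀ r : Q, (∃ a, vec r = D1 C.F a) → ∃ e, conjIn k r = r * zp D.hS e := by
    rintro r ⟨a, ha⟩
    have hv : vec r = vec (conjIn k r) := by
      rw [← actC_vec, ← act_mk D.hS, hk, ha, hfix]
    rcases (mem_center_cases D.hS).1 ((vec_eq_iff D.hS).1 hv) with h | h
    · exact ⟨0, by rw [zp_zero, mul_one]; exact (inv_mul_eq_one.1 h).symm⟩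
    · exact ⟨1, by rw [zp_one]; exact inv_mul_eq_iff_eq_mul.1 h⟩
  obtain ⟨e₁, h1⟩ := hlift P.t ⟨_, P.ht⟩
  obtain ⟨e₂, h2⟩ := hlift P.u ⟨_, P.hu⟩
  obtain ⟨q, hq1, hq2⟩ := P.exists_q e₁ e₂
  have hz : ∀ (e : ZMod 2) (h : Cz z), conjIn h (zp D.hS e) = zp D.hS e := fun e h => conjIn_zp (hS := D.hS) h e
  have hee : ∀ e : ZMod 2, zp D.hS e * zp D.hS e = 1 := fun e => by
    rw [← zp_add, (by decide : ∀ e : ZMod 2, e + e = 0) e, zp_zero]
  have hmem : (q : Cz z) * k ∈ P.HE := by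
    rw [P.mem_HE]
    have key : ∀ (r : Q) e, conjIn k r = r * zp D.hS e → bf D.hS (vec q) (vec r) = e →
        (q : Cz z) * k * r = r * ((q : Cz z) * k) := by
      intro r e hr hqr
      have h3 : conjIn ((q : Cz z) * k) r = r := by
        rw [conjIn_mul, hr, map_mul, conjIn_q (D := D), hz, hqr, mul_assoc, hee, mul_one]
      have h4 := congrArg (fun v : Q => (v : Cz z)) h3
      simp only [conjIn_coe] at h4
      exact mul_inv_eq_iff_eq_mul.1 h4
    exact ⟨key _ _ h1 hq1, key _ _ h2 hq2⟩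
  refine ⟨⟨_, hmem⟩, Subtype.ext (Subtype.ext ?_)⟩
  show (QuotientGroup.mk ((q : Cz z) * k) : Cz z ⧸ Q) = _
  rw [QuotientGroup.mk_mul, hk, (QuotientGroup.eq_one_iff _).2 q.2, one_mul]

/-- The preimage of the line in `Q`. -/
def KQ : Subgroup Q := P.Eq ⊔ Subgroup.center Q

theorem centralizer_KQ {q : Q} : q ∈ Subgroup.centralizer (P.KQ : Set Q) ↔ Commute q P.t ∧ Commute q P.u := by
  constructor
  · intro h
    exact ⟨(Subgroup.mem_centralizer_iff.1 h _ (Subgroup.mem_sup_left (Or.inr (Or.inl rfl)))).symm,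
      (Subgroup.mem_centralizer_iff.1 h _ (Subgroup.mem_sup_left (Or.inr (Or.inr (Or.inl rfl))))).symm⟩
  · rintro ⟨h1, h2⟩
    have hle : P.KQ ≤ Subgroup.centralizer ({q} : Set Q) := by
      refine sup_le ?_ fun c hc => Subgroup.mem_centralizer_singleton_iff.2 (Subgroup.mem_center_iff.1 hc q).symm
      intro a ha
      rw [Subgroup.mem_centralizer_singleton_iff]
      rcases P.mem_Eq.1 ha with rfl | rfl | rfl | rfl
      · simp
      · exact h1.eq.symm
      · exact h2.eq.symm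
      · exact (h1.mul_right h2).eq.symm
    exact Subgroup.mem_centralizer_iff.2 fun a ha => Subgroup.mem_centralizer_singleton_iff.1 (hle ha)

theorem mem_KQ {q : Q} : q ∈ P.KQ ↔ ∃ a ∈ P.Eq, ∃ c ∈ Subgroup.center Q, a * c = q :=
  Subgroup.mem_sup_of_normal_right

theorem card_KQ : Nat.card P.KQ = 8 := by
  let f : P.Eq × Subgroup.center Q → P.KQ := fun p =>
    ⟨(p.1 : Q) * p.2, mul_mem (Subgroup.mem_sup_left p.1.2) (Subgroup.mem_sup_right p.2.2)⟩
  have hbij : Function.Bijective f := by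
    refine ⟨?_, fun q => ?_⟩
    · rintro ⟨a, c⟩ ⟨b, d⟩ h
      have h' : (a : Q) * c = b * d := congrArg Subtype.val h
      have h3 : (b : Q)⁻¹ * a = d * (c : Q)⁻¹ := by
        rw [eq_mul_inv_iff_mul_eq, mul_assoc, h', inv_mul_cancel_left]
      have h4 := P.center_disjoint (P.Eq.mul_mem (P.Eq.inv_mem b.2) a.2)
        (h3 ▸ mul_mem d.2 (inv_mem c.2))
      have hab : a = b := Subtype.ext (inv_mul_eq_one.1 h4).symm
      subst hab
      exact Prod.ext rfl (Subtype.ext (mul_left_cancel h'))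
    · obtain ⟨a, ha, c, hc, e⟩ := P.mem_KQ.1 q.2
      exact ⟨(⟨a, ha⟩, ⟨c, hc⟩), Subtype.ext e⟩
  rw [← Nat.card_eq_of_bijective f hbij, Nat.card_prod, P.card_Eq, D.hS.2.2.1.2]

theorem card_centralizer_KQ : Nat.card (Subgroup.centralizer (P.KQ : Set Q)) = 2048 := by
  haveI : Fact (Nat.Prime 2) := ⟨Nat.prime_two⟩
  have h := CfsgLib.ExtraspecialBasic.card_centralizer_mul_card D.hS.2.2.1 (K := P.KQ) le_sup_right
  rw [P.card_KQ, D.hS.2.2.2.1] at h
  exact Nat.eq_of_mul_eq_mul_right (by norm_num : 0 < 8) (h.trans (by norm_num))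

end Pair

end CfsgLib.LargeFischerE
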